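import Cfsg.Agent.H618.Dp.Pairs
import Cfsg.Agent.H262.ElSympMiss
import Cfsg.Agent.H851.Dg.Count
import Cfsg.Agent.H583.SylLin

/-!
# S5734, the row `PSp_4(q)`: from `Sp_4(q)` to `PSp_4(q)`

* `lift_count` : the proportion of elements of `Sp` without a conjugate in `pre R`;
* `row_of_family` : the family count for `PSp_4(q)`;
* `card_le_of_miss` : the case where a prime power dividing `q ^ 2 + 1` is missing.
-/

set_option autoImplicit false

namespace Cfsg.Agent.H618.Dp

open Cfsg Cfsg.Geo Subgroup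
open Cfsg.Agent.ClassicalGeometry.SympBasic Cfsg.Agent.H876 Cfsg.Agent.H931
open Cfsg.Agent.H262.El (pre mem_pre pre_le spToGL_injective)
open Cfsg.Agent.H851.Dg (nd CycP)
open Cfsg.Agent.H884.El (PP)
open scoped Matrix MatrixGroups

variable {F : Type*} [Field F] {m : ℕ}

/-- the isomorphism of the two symplectic groups -/
noncomputable def eSp : Matrix.symplecticGroup (Fin m) F ≃* spGL m F :=
  MulEquiv.ofBijective ((spToGL m F).codRestrict (spGL m F) spToGL_mem)
    ⟨fun A B h => spToGL_injective (congrArg Subtype.val h), fun g => by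
      obtain ⟨A, hA⟩ := exists_spToGL g.2
      exact ⟨A, Subtype.ext hA⟩⟩

theorem coe_eSp (A : Matrix.symplecticGroup (Fin m) F) : ((eSp A : spGL m F) : GL (Fin m ⊕ Fin m) F) = spToGL m F A :=
  rfl

/-- the projection -/
noncomputable def prj : spGL m F →* PSp m F :=
  (QuotientGroup.mk' (Subgroup.center (Matrix.symplecticGroup (Fin m) F))).comp (eSp (m := m) (F := F)).symm.toMonoidHom

theorem prj_eSp (A : Matrix.symplecticGroup (Fin m) F) : prj (eSp A) = (QuotientGroup.mk A : PSp m F) := by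
  change (QuotientGroup.mk ((eSp (m := m) (F := F)).symm (eSp A)) : PSp m F) = _
  rw [MulEquiv.symm_apply_apply]

theorem prj_surjective : Function.Surjective (prj (m := m) (F := F)) := by
  intro x
  obtain ⟨A, rfl⟩ := QuotientGroup.mk_surjective x
  exact ⟨eSp A, prj_eSp A⟩

theorem mem_pre_iff {R : Subgroup (PSp m F)} (g : spGL m F) : (g : GL (Fin m ⊕ Fin m) F) ∈ pre R ↔ prj g ∈ R := by
  obtain ⟨A, rfl⟩ := (eSp (m := m) (F := F)).surjective g
  rw [coe_eSp, mem_pre, prj_eSp]

theorem card_ker [Finite F] : Nat.card (prj (m := m) (F := F)).ker * Nat.card (PSp m F) = Nat.card (spGL m F) := by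
  have hfin : Finite (GL (Fin m ⊕ Fin m) F) := inferInstance
  rw [Subgroup.card_eq_card_quotient_mul_card_subgroup (prj (m := m) (F := F)).ker, mul_comm]
  congr 1
  exact Nat.card_congr (QuotientGroup.quotientKerEquivOfSurjective _ prj_surjective).symm.toEquiv

theorem card_ker_dvd [Finite F] (hm : 1 ≤ m) : Nat.card (prj (m := m) (F := F)).ker ∣ 2 := by
  have : Fintype F := Fintype.ofFinite F
  have h1 : Nat.card (prj (m := m) (F := F)).ker =
      Nat.card (Subgroup.center (Matrix.symplecticGroup (Fin m) F)) := by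
    refine Nat.card_congr ⟨fun x => ⟨(eSp (m := m) (F := F)).symm x.1, ?_⟩, fun A => ⟨eSp A.1, ?_⟩, fun x => ?_, fun A => ?_⟩
    · have h2 := x.2
      rw [MonoidHom.mem_ker] at h2
      exact (QuotientGroup.eq_one_iff _).1 h2
    · rw [MonoidHom.mem_ker, prj_eSp]
      exact (QuotientGroup.eq_one_iff _).2 A.2
    · exact Subtype.ext (MulEquiv.apply_symm_apply _ _)
    · exact Subtype.ext (MulEquiv.symm_apply_apply _ _)
  rw [h1, Cfsg.Agent.S0246.result (q := Fintype.card F) rfl m hm]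
  exact Nat.gcd_dvd_left _ _

/-- the proportion of elements without a conjugate in the subgroup -/
theorem lift_count [Finite F] {R : Subgroup (PSp m F)} {E : Set (spGL m F)}
    (hE : ∀ x ∈ E, ∀ g : spGL m F, (g * x * g⁻¹ : spGL m F).1 ∉ pre R) :
    Nat.card E * Nat.card (PSp m F) ≤ nd R * Nat.card (spGL m F) := by
  classical
  have hfin : Finite (GL (Fin m ⊕ Fin m) F) := inferInstance
  have hfinT : Finite (PSp m F) := Finite.of_surjective _ (prj_surjective (m := m) (F := F))
  have h1 : Nat.card E ≤ nd R * Nat.card (prj (m := m) (F := F)).ker := by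
    rw [nd, ← Nat.card_prod]
    have hx : ∀ x ∈ E, ∀ g : PSp m F, g * prj x * g⁻¹ ∉ R := by
      intro x hx g hg
      obtain ⟨y, rfl⟩ := prj_surjective g
      rw [← map_mul, ← map_inv, ← map_mul, ← mem_pre_iff] at hg
      exact hE x hx y hg
    refine Nat.card_le_card_of_injective (fun x : E =>
      ((⟨prj x.1, hx x.1 x.2⟩, ⟨(Function.surjInv prj_surjective (prj x.1))⁻¹ * x.1, by
        rw [MonoidHom.mem_ker, map_mul, map_inv, Function.surjInv_eq prj_surjective, inv_mul_cancel]⟩) :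
        {x : PSp m F // ∀ g : PSp m F, g * x * g⁻¹ ∉ R} × (prj (m := m) (F := F)).ker)) ?_
    intro x y hxy
    have e1 : prj x.1 = prj y.1 := congrArg Subtype.val (congrArg Prod.fst hxy)
    have e2 := congrArg Subtype.val (congrArg Prod.snd hxy)
    simp only at e2
    rw [e1] at e2
    exact Subtype.ext (mul_left_cancel e2)
  calc Nat.card E * Nat.card (PSp m F) ≤ nd R * Nat.card (prj (m := m) (F := F)).ker * Nat.card (PSp m F) :=
        Nat.mul_le_mul_right _ h1
    _ = nd R * Nat.card (spGL m F) := by rw [mul_assoc, card_ker]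

/-- **The family count for `PSp_4(q)`.** -/
theorem row_of_family [Finite F] {R : Subgroup (PSp 2 F)} (P : Finset (Fin 2 → F)) (hP : ∀ S ∈ P, S 0 ≠ S 1)
    (hR : ∀ S ∈ P, ∀ g : spGL 2 F, (g * XS S * g⁻¹ : spGL 2 F).1 ∉ pre R) :
    P.card * Nat.card (PSp 2 F) ≤ 8 * Nat.card F ^ 2 * nd R := by
  have hfin : Finite (GL I4 F) := inferInstance
  have h1 := family_count P hP
  have h2 := lift_count (R := R) (E := {x : spGL 2 F | ∃ S ∈ P, ∃ g : spGL 2 F, g * XS S * g⁻¹ = x}) (by
    rintro x ⟨S, hS, g, rfl⟩ h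
    have := hR S hS (h * g)
    rwa [show h * g * XS S * (h * g)⁻¹ = h * (g * XS S * g⁻¹) * h⁻¹ by group] at this)
  have h3 : 0 < Nat.card (spGL 2 F) := Nat.card_pos
  refine Nat.le_of_mul_le_mul_right (?_ : _ * Nat.card (spGL 2 F) ≤ _) h3
  calc P.card * Nat.card (PSp 2 F) * Nat.card (spGL 2 F) = P.card * Nat.card (spGL 2 F) * Nat.card (PSp 2 F) := by ring
    _ ≤ 8 * Nat.card F ^ 2 * Nat.card {x : spGL 2 F // ∃ S ∈ P, ∃ g : spGL 2 F, g * XS S * g⁻¹ = x} *
        Nat.card (PSp 2 F) := Nat.mul_le_mul_right _ h1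
    _ = 8 * Nat.card F ^ 2 * (Nat.card {x : spGL 2 F // ∃ S ∈ P, ∃ g : spGL 2 F, g * XS S * g⁻¹ = x} *
        Nat.card (PSp 2 F)) := by ring
    _ ≤ 8 * Nat.card F ^ 2 * (nd R * Nat.card (spGL 2 F)) := Nat.mul_le_mul_left _ h2
    _ = _ := by ring

theorem card_pre [Finite F] (R : Subgroup (PSp m F)) :
    Nat.card (pre R) = Nat.card R * Nat.card (prj (m := m) (F := F)).ker := by
  have hfin : Finite (GL (Fin m ⊕ Fin m) F) := inferInstance
  have h1 : Nat.card (pre R) = Nat.card (R.comap (prj (m := m) (F := F))) := by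
    refine Nat.card_congr ⟨fun x => ⟨⟨x.1, pre_le R x.2⟩, ?_⟩, fun x => ⟨x.1.1, ?_⟩, fun x => rfl, fun x => rfl⟩
    · rw [Subgroup.mem_comap, ← mem_pre_iff]
      exact x.2
    · rw [mem_pre_iff]
      exact x.2
  rw [h1]
  let f : R.comap (prj (m := m) (F := F)) →* R := (prj (m := m) (F := F)).subgroupComap R
  have hf : Function.Surjective f := by
    rintro ⟨y, hy⟩
    obtain ⟨x, rfl⟩ := prj_surjective y
    exact ⟨⟨x, hy⟩, rfl⟩
  rw [Subgroup.card_eq_card_quotient_mul_card_subgroup f.ker]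
  congr 1
  · exact Nat.card_congr (QuotientGroup.quotientKerEquivOfSurjective _ hf).toEquiv
  · refine Nat.card_congr ⟨fun x => ⟨x.1.1, ?_⟩, fun x => ⟨⟨x.1, ?_⟩, ?_⟩, fun x => rfl, fun x => rfl⟩
    · exact congrArg Subtype.val (MonoidHom.mem_ker.1 x.2)
    · rw [Subgroup.mem_comap, MonoidHom.mem_ker.1 x.2]
      exact R.one_mem
    · rw [MonoidHom.mem_ker]
      exact Subtype.ext (MonoidHom.mem_ker.1 x.2)

/-- all `u`-subgroups of `Sp_2m(q)` are cyclic when `q` has order `2m` modulo `u`. -/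
theorem cycP [Fintype F] {u : ℕ} (hu : PP (Nat.card F) (2 * m) u) : CycP u (spGL m F) := by
  have hfin : Finite (GL (Fin m ⊕ Fin m) F) := inferInstance
  have := Fact.mk hu.prime
  intro P hP
  by_cases hP1 : P = ⊥
  · rw [hP1]
    infer_instance
  obtain ⟨x, hxP, hx, hxc⟩ := Cfsg.Agent.H512.SylNum.exists_center hP hP1
  have h1 : IsCyclic (centralizer ({x} : Set (spGL m F))) :=
    Cfsg.Agent.H583.SylLin.isCyclic_centralizer (φ := (spGL m F).subtype) (spGL m F).subtype_injective hu.prime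
      (by rw [← Nat.card_eq_fintype_card, hu.ord, card_sum_fin]) hx
  have h2 : P ≤ centralizer ({x} : Set (spGL m F)) := by
    intro y hy
    rw [mem_centralizer_singleton_iff]
    exact (hxc y hy).symm
  exact isCyclic_of_injective (Subgroup.inclusion h2) (Subgroup.inclusion_injective h2)

/-- the case where a prime power is missing -/
theorem card_le_of_miss [Fintype F] (hm : 1 ≤ m) {u j : ℕ} (hu : PP (Nat.card F) (2 * m) u) (hj : 1 ≤ j)
    (hd : u ^ j ∣ Nat.card (PSp m F)) {R : Subgroup (PSp m F)} (hR : ¬ u ^ j ∣ Nat.card R) :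
    Nat.card (PSp m F) ≤ 4 * m * nd R := by
  have hfin : Finite (GL (Fin m ⊕ Fin m) F) := inferInstance
  have := Fact.mk hu.prime
  have hu2 : Odd u := hu.odd (by omega)
  have h1 : u ^ j ∣ Nat.card (spGL m F) := hd.trans (by rw [← card_ker]; exact dvd_mul_left _ _)
  have h2 := Cfsg.Agent.H851.Dg.sing_pow (F := F) (hu.ne0 (by omega)) (spGL m F).subtype (spGL m F).subtype_injective
    (cycP hu) hj h1
  rw [card_sum_fin] at h2
  have h3 := lift_count (R := R) (E := {x : spGL m F | u ^ j ∣ orderOf x}) (by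
    intro x hx g hg
    have h4 : u ^ j ∣ orderOf x := hx
    have h5 : orderOf (g * x * g⁻¹) = orderOf x := by
      have := orderOf_injective (MulAut.conj g).toMonoidHom (MulAut.conj g).injective x
      simpa using this
    rw [← h5, ← Subgroup.orderOf_coe, ← Subgroup.orderOf_mk _ hg] at h4
    have h6 : u ^ j ∣ Nat.card (pre R) := h4.trans (orderOf_dvd_natCard _)
    rw [card_pre] at h6
    have h7 : Nat.Coprime (u ^ j) (Nat.card (prj (m := m) (F := F)).ker) :=
      Nat.Coprime.pow_left _ (Nat.Coprime.coprime_dvd_right (card_ker_dvd hm) (Nat.coprime_two_right.2 hu2))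
    exact hR (h7.dvd_of_dvd_mul_right h6))
  have h4 : 0 < Nat.card (spGL m F) := Nat.card_pos
  refine Nat.le_of_mul_le_mul_right (?_ : _ * Nat.card (spGL m F) ≤ _) h4
  calc Nat.card (PSp m F) * Nat.card (spGL m F)
      ≤ Nat.card (PSp m F) * (2 * (2 * m) * Nat.card {x : spGL m F // u ^ j ∣ orderOf x}) := Nat.mul_le_mul_left _ h2
    _ = 4 * m * (Nat.card {x : spGL m F // u ^ j ∣ orderOf x} * Nat.card (PSp m F)) := by ring
    _ ≤ 4 * m * (nd R * Nat.card (spGL m F)) := Nat.mul_le_mul_left _ h3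
    _ = _ := by ring

end Cfsg.Agent.H618.Dp
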