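import Cfsg.Agent.H618.Dp.Main
import Cfsg.Agent.S5788
import Cfsg.Agent.S5791

/-!
# S5734: the row `PSp_4(q)`
-/

set_option autoImplicit false

namespace Cfsg.Agent.H618.Dp

open Cfsg.Agent.H851.Dg (RowB)

/-- **The row `PSp_4(q)`.** -/
theorem row_psp4 : ∃ c : ℝ, 0 < c ∧ ∀ (F : Type) [Field F] [Fintype F], 3 ≤ Fintype.card F → RowB c (Cfsg.PSp 2 F) :=
  row_of (fun hodd H hH hS => Cfsg.Agent.S5788.result hodd H hH hS)
    (fun heven h4 H hH hS => Cfsg.Agent.S5791.result heven h4 H hH hS)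

end Cfsg.Agent.H618.Dp
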