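import Cfsg.Agent.H618.Dp.Pairs
import Cfsg.Agent.H912.Core4

/-!
# S5734, the row `PSp_4(q)`: elements avoiding the normaliser of a quadratic field
-/

set_option autoImplicit false

namespace Cfsg.Agent.H618.Dp

open Cfsg Cfsg.Geo Module
open Cfsg.Agent.ClassicalGeometry.SympBasic Cfsg.Agent.H876 Cfsg.Agent.H931
open scoped Matrix MatrixGroups

variable {F : Type*} [Field F]

/-- the square of an element normalising a quadratic field centralises it -/
theorem sq_commute {K : Subalgebra F (Matrix I4 I4 F)} (hK : IsFieldSubalgebra 2 K) {x : GL I4 F}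
    (hx : x ∈ subalgebraNormalizer K) {k : Matrix I4 I4 F} (hk : k ∈ K) :
    ((x ^ 2 : GL I4 F) : Matrix I4 I4 F) * k = k * ((x ^ 2 : GL I4 F) : Matrix I4 I4 F) := by
  classical
  have hne : Nonempty I4 := ⟨Sum.inl 0⟩
  let _ : Field K := (H912.isField_of_fieldSub hK).toField
  have hfin : FiniteDimensional F K := Module.finite_of_finrank_pos (by rw [hK.finrank_eq]; norm_num)
  have hx' := fun k => (hx : ∀ k : Matrix I4 I4 F, k ∈ K ↔ (x : Matrix I4 I4 F) * k * ((x⁻¹ : GL I4 F) : Matrix I4 I4 F) ∈ K) k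
  have hxx : (x : Matrix I4 I4 F) * ((x⁻¹ : GL I4 F) : Matrix I4 I4 F) = 1 := by
    rw [← Units.val_mul, mul_inv_cancel, Units.val_one]
  have hxx' : ((x⁻¹ : GL I4 F) : Matrix I4 I4 F) * (x : Matrix I4 I4 F) = 1 := by
    rw [← Units.val_mul, inv_mul_cancel, Units.val_one]
  let σ : K →ₐ[F] K :=
    { toFun := fun k => ⟨(x : Matrix I4 I4 F) * k * ((x⁻¹ : GL I4 F) : Matrix I4 I4 F), (hx' k).1 k.2⟩
      map_one' := Subtype.ext (by
        change (x : Matrix I4 I4 F) * 1 * ((x⁻¹ : GL I4 F) : Matrix I4 I4 F) = 1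
        rw [mul_one, hxx])
      map_mul' := fun a b => Subtype.ext (by
        change (x : Matrix I4 I4 F) * (a.1 * b.1) * ((x⁻¹ : GL I4 F) : Matrix I4 I4 F) =
          (x : Matrix I4 I4 F) * a.1 * ((x⁻¹ : GL I4 F) : Matrix I4 I4 F) *
            ((x : Matrix I4 I4 F) * b.1 * ((x⁻¹ : GL I4 F) : Matrix I4 I4 F))
        calc (x : Matrix I4 I4 F) * (a.1 * b.1) * ((x⁻¹ : GL I4 F) : Matrix I4 I4 F) =
            (x : Matrix I4 I4 F) * a.1 * 1 * (b.1 * ((x⁻¹ : GL I4 F) : Matrix I4 I4 F)) := by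
              rw [mul_one]; simp only [mul_assoc]
          _ = _ := by rw [← hxx']; simp only [mul_assoc])
      map_zero' := Subtype.ext (by
        change (x : Matrix I4 I4 F) * 0 * ((x⁻¹ : GL I4 F) : Matrix I4 I4 F) = 0
        rw [mul_zero, zero_mul])
      map_add' := fun a b => Subtype.ext (by
        change (x : Matrix I4 I4 F) * (a.1 + b.1) * ((x⁻¹ : GL I4 F) : Matrix I4 I4 F) = _
        rw [mul_add, add_mul]
        rfl)
      commutes' := fun c => Subtype.ext (by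
        change (x : Matrix I4 I4 F) * (algebraMap F (Matrix I4 I4 F) c) * ((x⁻¹ : GL I4 F) : Matrix I4 I4 F) =
          algebraMap F (Matrix I4 I4 F) c
        rw [← Algebra.commutes, mul_assoc, hxx, mul_one]) }
  have hσ : Function.Bijective σ := by
    have h1 : Function.Injective σ := σ.toRingHom.injective
    exact ⟨h1, LinearMap.surjective_of_injective (f := σ.toLinearMap) h1⟩
  let τ : K ≃ₐ[F] K := AlgEquiv.ofBijective σ hσ
  have h2 : Fintype.card (K ≃ₐ[F] K) ≤ 2 := AlgEquiv.card_le.trans hK.finrank_eq.le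
  have h3 : τ ^ 2 = 1 := by
    have h4 : orderOf τ ∣ 2 := by
      have h5 := orderOf_le_card_univ (x := τ)
      have h6 := orderOf_pos τ
      have h7 : orderOf τ = 1 ∨ orderOf τ = 2 := by omega
      rcases h7 with h | h <;> rw [h] <;> norm_num
    exact orderOf_dvd_iff_pow_eq_one.1 h4
  have h4 : σ (σ ⟨k, hk⟩) = ⟨k, hk⟩ := by
    have h5 : (τ ^ 2) ⟨k, hk⟩ = ⟨k, hk⟩ := by rw [h3]; rfl
    rw [pow_two] at h5
    exact h5
  have h5 : (x : Matrix I4 I4 F) * ((x : Matrix I4 I4 F) * k * ((x⁻¹ : GL I4 F) : Matrix I4 I4 F)) *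
      ((x⁻¹ : GL I4 F) : Matrix I4 I4 F) = k := congrArg Subtype.val h4
  have hBA : ∀ z : Matrix I4 I4 F, ((x⁻¹ : GL I4 F) : Matrix I4 I4 F) * ((x : Matrix I4 I4 F) * z) = z := fun z => by
    rw [← mul_assoc, hxx', one_mul]
  rw [Units.val_pow_eq_pow_val, pow_two]
  conv_rhs => rw [← h5]
  simp only [mul_assoc, hBA, hxx', mul_one]

theorem X_sq_add (S : Fin 2 → F) : XM S * XM S + YM S * YM S + 2 = Matrix.diagonal (Sum.elim (S ^ 2) (S ^ 2)) := by
  have h1 : Matrix.diagonal (Sum.elim (S ^ 2) (S ^ 2)) = (XM S + YM S) * (XM S + YM S) := by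
    rw [XM_add_YM, Matrix.diagonal_mul_diagonal]
    congr 1
    funext i
    rcases i with i | i
    · simp [pow_two]
    · simp [pow_two]
  have h2 : (2 : Matrix I4 I4 F) = 1 + 1 := one_add_one_eq_two.symm
  rw [h1, add_mul, mul_add, mul_add, XM_mul_YM, YM_mul_XM, h2]
  abel

/-- **Avoiding the normaliser of a self-adjoint quadratic field.** -/
theorem avoid_field {K : Subalgebra F (Matrix I4 I4 F)} (hK : IsFieldSubalgebra 2 K)
    (h0 : ∀ k ∈ K, ∀ v, sympForm 2 F (k *ᵥ v) v = 0) {S : Fin 2 → F} (hS : S 0 ^ 2 ≠ S 1 ^ 2) {g : GL I4 F}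
    (hg : g ∈ spGL 2 F) : g * X S * g⁻¹ ∉ subalgebraNormalizer K := by
  intro hx
  have hne : Nonempty I4 := ⟨Sum.inl 0⟩
  have hgg : (g : Matrix I4 I4 F) * ((g⁻¹ : GL I4 F) : Matrix I4 I4 F) = 1 := by
    rw [← Units.val_mul, mul_inv_cancel, Units.val_one]
  have hgg' : ((g⁻¹ : GL I4 F) : Matrix I4 I4 F) * (g : Matrix I4 I4 F) = 1 := by
    rw [← Units.val_mul, inv_mul_cancel, Units.val_one]
  -- every element of `K` is a scalar
  have key : ∀ k ∈ K, ∃ a : F, k = algebraMap F (Matrix I4 I4 F) a := by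
    intro k hk
    set k' : Matrix I4 I4 F := ((g⁻¹ : GL I4 F) : Matrix I4 I4 F) * k * g with hk'
    -- `k'` commutes with the diagonal matrix
    have h1 := sq_commute hK hx hk
    have h2 := sq_commute hK (Subgroup.inv_mem _ hx) hk
    have conj_com : ∀ y : GL I4 F, ((g * y * g⁻¹ : GL I4 F) : Matrix I4 I4 F) * k =
        k * ((g * y * g⁻¹ : GL I4 F) : Matrix I4 I4 F) → (y : Matrix I4 I4 F) * k' = k' * y := by
      intro y hy
      rw [Units.val_mul, Units.val_mul] at hy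
      calc (y : Matrix I4 I4 F) * k' = ((g⁻¹ : GL I4 F) : Matrix I4 I4 F) *
            ((g : Matrix I4 I4 F) * y * ((g⁻¹ : GL I4 F) : Matrix I4 I4 F) * k) * g := by
            rw [hk']
            simp only [← mul_assoc]
            rw [hgg', one_mul]
        _ = ((g⁻¹ : GL I4 F) : Matrix I4 I4 F) * (k *
            ((g : Matrix I4 I4 F) * y * ((g⁻¹ : GL I4 F) : Matrix I4 I4 F))) * g := by rw [hy]
        _ = k' * y := by
            rw [hk']
            simp only [mul_assoc]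
            rw [hgg', mul_one]
    have h3 : ((X S ^ 2 : GL I4 F) : Matrix I4 I4 F) * k' = k' * ((X S ^ 2 : GL I4 F) : Matrix I4 I4 F) := by
      apply conj_com
      rw [conj_pow] at h1
      exact h1
    have h4 : (((X S)⁻¹ ^ 2 : GL I4 F) : Matrix I4 I4 F) * k' = k' * (((X S)⁻¹ ^ 2 : GL I4 F) : Matrix I4 I4 F) := by
      apply conj_com
      have e1 : (g * X S * g⁻¹)⁻¹ ^ 2 = g * (X S)⁻¹ ^ 2 * g⁻¹ := by
        rw [← conj_pow, mul_inv_rev, mul_inv_rev, inv_inv, mul_assoc]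
      rw [e1] at h2
      exact h2
    rw [Units.val_pow_eq_pow_val, coe_X, pow_two] at h3
    rw [Units.val_pow_eq_pow_val, coe_X_inv, pow_two] at h4
    have h5 : Matrix.diagonal (Sum.elim (S ^ 2) (S ^ 2)) * k' = k' * Matrix.diagonal (Sum.elim (S ^ 2) (S ^ 2)) := by
      rw [← X_sq_add, add_mul, add_mul, mul_add, mul_add, h3, h4, two_mul, mul_two]
    -- entries
    have hoff : ∀ a b : I4, Sum.elim (S ^ 2) (S ^ 2) a ≠ Sum.elim (S ^ 2) (S ^ 2) b → k' a b = 0 := by
      intro a b hab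
      have h6 := congrFun (congrFun h5 a) b
      rw [Matrix.mul_diagonal, Matrix.diagonal_mul] at h6
      have h7 : (Sum.elim (S ^ 2) (S ^ 2) a - Sum.elim (S ^ 2) (S ^ 2) b) * k' a b = 0 := by
        linear_combination h6
      exact (mul_eq_zero.1 h7).resolve_left (sub_ne_zero.2 hab)
    have z1 : k' (Sum.inl 1) (Sum.inl 0) = 0 := hoff _ _ (by simpa using hS.symm)
    have z2 : k' (Sum.inr 1) (Sum.inl 0) = 0 := hoff _ _ (by simpa using hS.symm)
    have hcol : k' *ᵥ Pi.single (Sum.inl 0) 1 = fun i => k' i (Sum.inl 0) := by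
      rw [Matrix.mulVec_single_one]; rfl
    have hkg : k *ᵥ ((g : Matrix I4 I4 F) *ᵥ Pi.single (Sum.inl 0) 1) =
        (g : Matrix I4 I4 F) *ᵥ (k' *ᵥ Pi.single (Sum.inl 0) 1) := by
      rw [Matrix.mulVec_mulVec, Matrix.mulVec_mulVec, hk', ← mul_assoc, ← mul_assoc, hgg, one_mul]
    have z3 : k' (Sum.inr 0) (Sum.inl 0) = 0 := by
      have h6 := h0 k hk ((g : Matrix I4 I4 F) *ᵥ Pi.single (Sum.inl 0) 1)
      rw [hkg, mem_spGL_iff.1 hg, hcol, sympForm_single_inl_right] at h6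
      exact h6
    have hev : k' *ᵥ Pi.single (Sum.inl 0) 1 = k' (Sum.inl 0) (Sum.inl 0) • Pi.single (Sum.inl 0) 1 := by
      rw [hcol]
      funext i
      rcases i with i | i <;> fin_cases i
      · simp
      · simpa using z1
      · simpa using z3
      · simpa using z2
    refine ⟨k' (Sum.inl 0) (Sum.inl 0), ?_⟩
    by_contra hcon
    obtain ⟨y, hy, hy1⟩ := hK.inv (k - algebraMap F (Matrix I4 I4 F) (k' (Sum.inl 0) (Sum.inl 0)))
      (K.sub_mem hk (K.algebraMap_mem _)) (sub_ne_zero.2 hcon)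
    rw [hK.comm _ (K.sub_mem hk (K.algebraMap_mem _)) _ hy] at hy1
    have h6 : (k - algebraMap F (Matrix I4 I4 F) (k' (Sum.inl 0) (Sum.inl 0))) *ᵥ
        ((g : Matrix I4 I4 F) *ᵥ Pi.single (Sum.inl 0) 1) = 0 := by
      rw [Matrix.sub_mulVec, hkg, hev, Matrix.mulVec_smul, Algebra.algebraMap_eq_smul_one, Matrix.smul_mulVec,
        Matrix.one_mulVec, sub_self]
    have h7 : (g : Matrix I4 I4 F) *ᵥ Pi.single (Sum.inl 0) 1 = 0 := by
      rw [← Matrix.one_mulVec ((g : Matrix I4 I4 F) *ᵥ Pi.single (Sum.inl 0) 1), ← hy1, ← Matrix.mulVec_mulVec, h6,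
        Matrix.mulVec_zero]
    have h8 : (Pi.single (Sum.inl 0) 1 : I4 → F) = 0 := by
      rw [← Matrix.one_mulVec (Pi.single (Sum.inl 0) 1 : I4 → F), ← hgg', ← Matrix.mulVec_mulVec, h7,
        Matrix.mulVec_zero]
    have h9 := congrFun h8 (Sum.inl 0)
    rw [Pi.single_eq_same] at h9
    exact one_ne_zero h9
  have hbot : K = ⊥ := by
    rw [eq_bot_iff]
    intro k hk
    obtain ⟨a, ha⟩ := key k hk
    rw [ha]
    exact Algebra.mem_bot.2 ⟨a, rfl⟩
  have h1 := hK.finrank_eq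
  rw [hbot, Subalgebra.finrank_bot] at h1
  exact absurd h1 (by norm_num)

end Cfsg.Agent.H618.Dp
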