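import Cfsg.Agent.H618.Dp.AvoidZ
import Cfsg.Agent.H884.ElLin
import Cfsg.Agent.H883.Bridge

/-!
# S5734, the row `PSp_4(q)`: elements avoiding the orthogonal groups of minus type
-/

set_option autoImplicit false

namespace Cfsg.Agent.H618.Dp

open Cfsg Cfsg.Geo Module
open Cfsg.Agent.H884.El (PP exists_elt lin)
open Cfsg.Agent.H955 (IsPlus)
open Cfsg.Agent.ClassicalGeometry.SympBasic Cfsg.Agent.H876 Cfsg.Agent.H931
open scoped Matrix MatrixGroups

universe u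

section

variable {F : Type*} [Field F] {V : Type*} [AddCommGroup V] [Module F V]

theorem isPlus_of_pair [FiniteDimensional F V] {Q : QuadraticForm F V} {w₀ w₁ : V} (h0 : Q w₀ = 0) (h1 : Q w₁ = 0)
    (h2 : QuadraticMap.polar Q w₀ w₁ = 0) (hli : LinearIndependent F ![w₀, w₁]) (hV : finrank F V = 4) : IsPlus Q := by
  refine ⟨Submodule.span F {w₀, w₁}, fun u hu => ?_, ?_⟩
  · obtain ⟨a, b, rfl⟩ := Submodule.mem_span_pair.1 hu
    have h3 := QuadraticMap.map_add (⇑Q) (a • w₀) (b • w₁)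
    rw [h3, QuadraticMap.map_smul, QuadraticMap.map_smul, h0, h1, QuadraticMap.polar_smul_left,
      QuadraticMap.polar_smul_right, h2]
    simp
  · have h3 : Submodule.span F {w₀, w₁} = Submodule.span F (Set.range ![w₀, w₁]) := by
      congr 1
      simp [Set.pair_comm]
    rw [h3, finrank_span_eq_card hli, hV, Fintype.card_fin]

end

variable {F : Type u} [Field F] [Fintype F]

/-- **Avoiding the orthogonal groups.** -/
theorem avoid_quad {Q : (I4 → F) → F} (hQ : IsNondegenerateQuadraticForm Q)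
    (hpol : ∀ u v, QuadraticMap.polar Q u v = sympForm 2 F u v) {H : Subgroup (GL I4 F)} (hH : H ≤ isometryGroup F Q)
    {r : ℕ} (hr : PP (Nat.card F) 4 r) (hrH : r ∣ Nat.card H) {S : Fin 2 → F} {β : Fin 2 → F}
    (hβ : ∀ i, β i ^ 2 + 1 = S i * β i) (hβ1 : ∀ i, β i ^ 2 ≠ 1) {g : GL I4 F} (hg : g ∈ spGL 2 F) :
    g * X S * g⁻¹ ∉ H := by
  intro hx
  have hgg' : ((g⁻¹ : GL I4 F) : Matrix I4 I4 F) * (g : Matrix I4 I4 F) = 1 := by
    rw [← Units.val_mul, inv_mul_cancel, Units.val_one]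
  obtain ⟨Q', hQ', hnd⟩ := Cfsg.Agent.H883.Bridge.exists_quadraticForm hQ
  have hfin : finrank F (I4 → F) = 4 := by
    rw [Module.finrank_fintype_fun_eq_card]
    rfl
  have hHQ := hH
  rw [← hQ'] at hHQ
  obtain ⟨x, hxH, hiso, -, hx1⟩ := exists_elt hHQ hr (by omega) hrH
  obtain ⟨hcm, hcmP⟩ := hiso.even_case hnd (H884.El.lin_ne_one hx1) hr ⟨2, rfl⟩ (by rw [hfin]; norm_num)
  have e1 : H951.cm (lin x) = ⊤ := Submodule.eq_top_of_finrank_eq (by rw [hcm, hfin])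
  rw [e1] at hcmP
  apply hcmP
  refine IsPlus.of_equiv (Submodule.topEquiv (R := F) (M := I4 → F)).symm (fun v => rfl) ?_
  -- the eigenvectors
  have hev : ∀ i, ((g * X S * g⁻¹ : GL I4 F) : Matrix I4 I4 F) *ᵥ ((g : Matrix I4 I4 F) *ᵥ wv i (β i)) =
      β i • ((g : Matrix I4 I4 F) *ᵥ wv i (β i)) := by
    intro i
    rw [Units.val_mul, Units.val_mul, ← Matrix.mulVec_mulVec, ← Matrix.mulVec_mulVec,
      Matrix.mulVec_mulVec (wv i (β i)), hgg', Matrix.one_mulVec, coe_X, XM_wv (hβ i), Matrix.mulVec_smul]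
  have hsing : ∀ i, Q ((g : Matrix I4 I4 F) *ᵥ wv i (β i)) = 0 := by
    intro i
    have h1 := (H925.mem_iso_iff.1 (hH hx)) ((g : Matrix I4 I4 F) *ᵥ wv i (β i))
    rw [hev, hQ.smul] at h1
    have h2 : (β i ^ 2 - 1) * Q ((g : Matrix I4 I4 F) *ᵥ wv i (β i)) = 0 := by linear_combination h1
    exact (mul_eq_zero.1 h2).resolve_left (sub_ne_zero.2 (hβ1 i))
  refine isPlus_of_pair (w₀ := (g : Matrix I4 I4 F) *ᵥ wv 0 (β 0)) (w₁ := (g : Matrix I4 I4 F) *ᵥ wv 1 (β 1)) ?_ ?_ ?_ ?_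
    hfin
  · rw [hQ']; exact hsing 0
  · rw [hQ']; exact hsing 1
  · rw [hQ', hpol, mem_spGL_iff.1 hg, sympForm_eq_sum, Fin.sum_univ_two]
    simp [wv]
  · rw [LinearIndependent.pair_iff]
    intro a b hab
    have h1 : (g : Matrix I4 I4 F) *ᵥ (a • wv 0 (β 0) + b • wv 1 (β 1)) = 0 := by
      rw [Matrix.mulVec_add, Matrix.mulVec_smul, Matrix.mulVec_smul, hab]
    have h2 : a • wv 0 (β 0) + b • wv 1 (β 1) = 0 := by
      rw [← Matrix.one_mulVec (a • wv 0 (β 0) + b • wv 1 (β 1)), ← hgg', ← Matrix.mulVec_mulVec, h1,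
        Matrix.mulVec_zero]
    have h3 := congrFun h2 (Sum.inl 0)
    have h4 := congrFun h2 (Sum.inl 1)
    simp [wv] at h3 h4
    exact ⟨h3, h4⟩

end Cfsg.Agent.H618.Dp
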