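import Cfsg.Agent.H618.Dp.Pairs
import Cfsg.Agent.H421.Uni.RkOne

/-!
# S5734, the row `PSp_4(q)`: eigenvalues of the family
-/

set_option autoImplicit false

namespace Cfsg.Agent.H618.Dp

open Cfsg Cfsg.Geo Module
open Cfsg.Agent.ClassicalGeometry.SympBasic Cfsg.Agent.H876 Cfsg.Agent.H931
open scoped Matrix MatrixGroups

variable {F : Type*} [Field F]

/-- the eigenvector -/
def wv (i : Fin 2) (β : F) : I4 → F := Sum.elim (Pi.single i 1) (Pi.single i (-β))

theorem wv_ne_zero (i : Fin 2) (β : F) : wv i β ≠ 0 := by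
  intro h
  have := congrFun h (Sum.inl i)
  simp [wv] at this

theorem XM_wv {S : Fin 2 → F} {i : Fin 2} {β : F} (hβ : β ^ 2 + 1 = S i * β) : XM S *ᵥ wv i β = β • wv i β := by
  funext j
  rcases j with j | j
  · rw [XM_inl]
    rcases eq_or_ne j i with rfl | hji
    · simp [wv]
    · simp [wv, hji]
  · rw [XM_inr]
    rcases eq_or_ne j i with rfl | hji
    · simp only [wv, Sum.elim_inl, Sum.elim_inr, Pi.single_eq_same, Pi.smul_apply, smul_eq_mul]
      linear_combination hβ
    · simp [wv, hji]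

theorem X_pow_wv {S : Fin 2 → F} {i : Fin 2} {β : F} (hβ : β ^ 2 + 1 = S i * β) (n : ℕ) :
    ((X S ^ n : GL I4 F) : Matrix I4 I4 F) *ᵥ wv i β = β ^ n • wv i β := by
  induction n with
  | zero => simp
  | succ n ih =>
    rw [pow_succ, Units.val_mul, ← Matrix.mulVec_mulVec, coe_X, XM_wv hβ, Matrix.mulVec_smul, ih, smul_smul,
      pow_succ, mul_comm]

theorem pow_eq_one_of_X {S : Fin 2 → F} {i : Fin 2} {β : F} (hβ : β ^ 2 + 1 = S i * β) {n : ℕ} (hn : X S ^ n = 1) :
    β ^ n = 1 := by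
  have h1 := X_pow_wv hβ n
  rw [hn, Units.val_one, Matrix.one_mulVec] at h1
  have h2 : (β ^ n - 1) • wv i β = 0 := by rw [sub_smul, ← h1, one_smul, sub_self]
  exact sub_eq_zero.1 ((smul_eq_zero.1 h2).resolve_right (wv_ne_zero i β))

theorem map_X {E : Type*} [Field E] (φ : F →+* E) (S : Fin 2 → F) :
    Matrix.GeneralLinearGroup.map φ (X S) = X (φ ∘ S) := by
  apply Units.ext
  change (XM S).map φ = XM (φ ∘ S)
  rw [XM, XM, Matrix.fromBlocks_map]
  have e1 : (0 : Matrix (Fin 2) (Fin 2) F).map φ = 0 := Matrix.map_zero φ (map_zero φ)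
  have e2 : (1 : Matrix (Fin 2) (Fin 2) F).map φ = 1 := Matrix.map_one φ (map_zero φ) (map_one φ)
  have e3 : (-1 : Matrix (Fin 2) (Fin 2) F).map φ = -1 := by
    ext i j
    have := congrFun (congrFun e2 i) j
    rw [Matrix.map_apply] at this
    rw [Matrix.map_apply, Matrix.neg_apply, Matrix.neg_apply, map_neg, this]
  rw [e1, e2, e3, Matrix.diagonal_map (map_zero φ)]
  rfl

/-- **Orders.** -/
theorem pow_eq_one_ext {E : Type*} [Field E] (φ : F →+* E) {S : Fin 2 → F} {i : Fin 2} {α : E}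
    (hα : α ^ 2 + 1 = φ (S i) * α) {n : ℕ} (hn : X S ^ n = 1) : α ^ n = 1 := by
  refine pow_eq_one_of_X (S := φ ∘ S) (i := i) hα ?_
  rw [← map_X, ← map_pow, hn, map_one]

/-- a nonsplit element -/
theorem exists_alpha [Fintype F] {s : F} (hs : ∀ β : F, β ^ 2 + 1 ≠ s * β) :
    ∃ α : AlgebraicClosure F, α ^ 2 + 1 = algebraMap F (AlgebraicClosure F) s * α ∧ α ^ (Fintype.card F + 1) = 1 := by
  classical
  let E := AlgebraicClosure F
  let φ := algebraMap F E
  obtain ⟨α, hα⟩ := IsAlgClosed.exists_root (Polynomial.C (1 : E) * Polynomial.X ^ 2 + Polynomial.C (-φ s) * Polynomial.X +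
    Polynomial.C 1) (by
      have h := Polynomial.degree_quadratic (a := (1 : E)) (b := -φ s) (c := 1) one_ne_zero
      rw [h]
      norm_num)
  have hα' : α ^ 2 + 1 = φ s * α := by
    rw [Polynomial.IsRoot] at hα
    simp only [Polynomial.eval_add, Polynomial.eval_mul, Polynomial.eval_pow, Polynomial.eval_X,
      Polynomial.eval_C] at hα
    linear_combination hα
  refine ⟨α, hα', ?_⟩
  have hα0 : α ≠ 0 := by
    rintro rfl
    rw [zero_pow (by norm_num), zero_add, mul_zero] at hα'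
    exact one_ne_zero hα'
  obtain ⟨p, hp⟩ := CharP.exists F
  obtain ⟨n, hpp, hn⟩ := FiniteField.card F p
  have hfp : Fact p.Prime := ⟨hpp⟩
  have hpE : CharP E p := charP_of_injective_algebraMap φ.injective p
  have hq : (α ^ Fintype.card F) ^ 2 + 1 = φ s * α ^ Fintype.card F := by
    have h1 : (α ^ 2 + 1) ^ Fintype.card F = (φ s * α) ^ Fintype.card F := by rw [hα']
    rw [mul_pow, ← map_pow, FiniteField.pow_card] at h1
    rw [← h1, hn, add_pow_char_pow, one_pow, ← pow_mul, ← pow_mul, mul_comm]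
  have h2 : (α ^ Fintype.card F - α) * (α * α ^ Fintype.card F - 1) = 0 := by
    linear_combination α * hq - α ^ Fintype.card F * hα'
  rcases mul_eq_zero.1 h2 with h3 | h3
  · exfalso
    obtain ⟨β, hβ⟩ := Cfsg.Agent.H421.Uni.exists_of_pow (F := F) (sub_eq_zero.1 h3)
    apply hs β
    apply φ.injective
    rw [map_add, map_pow, map_one, map_mul]
    change (algebraMap F E β) ^ 2 + 1 = φ s * algebraMap F E β
    rw [hβ, hα']
  · rw [pow_succ, mul_comm]
    exact sub_eq_zero.1 h3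

end Cfsg.Agent.H618.Dp
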