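import Cfsg.Agent.H618.Dp.AvoidZ

/-!
# S5734, the row `PSp_4(q)`: counting the parameters
-/

set_option autoImplicit false

namespace Cfsg.Agent.H618.Dp

variable {F : Type*} [Field F] [Fintype F] [DecidableEq F]

omit [Field F] [Fintype F] in
/-- pairs -/
def prs (A : Finset F) (B : F → Finset F) : Finset (Fin 2 → F) :=
  (A.sigma B).image fun p => ![p.1, p.2]

omit [Field F] [Fintype F] in
theorem mem_prs {A : Finset F} {B : F → Finset F} {S : Fin 2 → F} (h : S ∈ prs A B) : S 0 ∈ A ∧ S 1 ∈ B (S 0) := by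
  obtain ⟨⟨a, b⟩, hp, rfl⟩ := Finset.mem_image.1 h
  exact Finset.mem_sigma.1 hp

omit [Field F] [Fintype F] in
theorem card_prs {A : Finset F} {B : F → Finset F} {n : ℕ} (h : ∀ s ∈ A, n ≤ (B s).card) :
    A.card * n ≤ (prs A B).card := by
  rw [prs, Finset.card_image_of_injective, Finset.card_sigma]
  · calc A.card * n = ∑ _s ∈ A, n := by rw [Finset.sum_const, smul_eq_mul]
      _ ≤ _ := Finset.sum_le_sum h
  · rintro ⟨a, b⟩ ⟨c, d⟩ hp
    have h1 := congrFun hp 0
    have h2 := congrFun hp 1
    simp only [Matrix.cons_val_zero, Matrix.cons_val_one] at h1 h2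
    subst h1
    subst h2
    rfl

/-- different squares -/
def PB : Finset (Fin 2 → F) := prs Finset.univ fun s => Finset.univ.filter fun t => s ^ 2 ≠ t ^ 2

theorem card_PB (hq : 4 ≤ Fintype.card F) : Fintype.card F ^ 2 ≤ 16 * (PB (F := F)).card := by
  have h1 : Fintype.card F * (Fintype.card F - 2) ≤ (PB (F := F)).card := by
    rw [← Finset.card_univ]
    refine card_prs fun s _ => ?_
    have h2 : (Finset.univ : Finset F) \ {s, -s} ⊆ Finset.univ.filter fun t => s ^ 2 ≠ t ^ 2 := by
      intro t ht
      rw [Finset.mem_sdiff, Finset.mem_insert, Finset.mem_singleton, not_or] at ht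
      refine Finset.mem_filter.2 ⟨Finset.mem_univ _, fun h => ?_⟩
      rcases sq_eq_sq_iff_eq_or_eq_neg.1 h with h | h
      · exact ht.2.1 h.symm
      · exact ht.2.2 (by rw [h, neg_neg])
    have h3 := Finset.card_le_card h2
    have h4 := Finset.le_card_sdiff {s, -s} (Finset.univ : Finset F)
    have h5 : ({s, -s} : Finset F).card ≤ 2 := Finset.card_le_two
    omega
  obtain ⟨k, hk⟩ := Nat.exists_eq_add_of_le hq
  rw [hk] at h1 ⊢
  have h2 : 4 + k - 2 = 2 + k := by omega
  rw [h2] at h1
  nlinarith

/-- the parameters of the split tori -/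
def US : Finset F := Finset.univ.filter fun β => β ≠ 0 ∧ β ^ 2 ≠ 1

/-- the traces of the split tori -/
def SS : Finset F := (US (F := F)).image fun β => β + β⁻¹

theorem card_US_ge : Fintype.card F ≤ (US (F := F)).card + 3 := by
  have h2 : (Finset.univ : Finset F) \ {0, 1, -1} ⊆ US := by
    intro t ht
    rw [Finset.mem_sdiff, Finset.mem_insert, Finset.mem_insert, Finset.mem_singleton, not_or, not_or] at ht
    refine Finset.mem_filter.2 ⟨Finset.mem_univ _, ht.2.1, fun h => ?_⟩
    rcases sq_eq_sq_iff_eq_or_eq_neg.1 (h.trans (one_pow 2).symm) with h | h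
    · exact ht.2.2.1 h
    · exact ht.2.2.2 h
  have h3 := Finset.card_le_card h2
  have h4 := Finset.le_card_sdiff {0, 1, -1} (Finset.univ : Finset F)
  have h5 : ({0, 1, -1} : Finset F).card ≤ 3 := Finset.card_le_three
  rw [Finset.card_univ] at h4
  omega

omit [Fintype F] [DecidableEq F] in
theorem trace_eq {β γ : F} (hβ : β ≠ 0) (hγ : γ ≠ 0) (h : β + β⁻¹ = γ + γ⁻¹) : β = γ ∨ β = γ⁻¹ := by
  have h1 : (β - γ) * (β * γ - 1) = 0 := by
    field_simp at h
    linear_combination h
  rcases mul_eq_zero.1 h1 with h2 | h2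
  · exact Or.inl (sub_eq_zero.1 h2)
  · exact Or.inr (eq_inv_of_mul_eq_one_left (sub_eq_zero.1 h2))

theorem card_US_le : (US (F := F)).card ≤ 2 * (SS (F := F)).card := by
  refine Finset.card_le_mul_card_image _ 2 fun b hb => ?_
  obtain ⟨γ, hγ, rfl⟩ := Finset.mem_image.1 hb
  have hγ0 := (Finset.mem_filter.1 hγ).2.1
  refine (Finset.card_le_card (?_ : _ ⊆ ({γ, γ⁻¹} : Finset F))).trans Finset.card_le_two
  intro β hβ
  obtain ⟨h1, h2⟩ := Finset.mem_filter.1 hβ
  have hβ0 := (Finset.mem_filter.1 h1).2.1
  rcases trace_eq hβ0 hγ0 h2 with h | h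
  · exact Finset.mem_insert.2 (Or.inl h)
  · exact Finset.mem_insert.2 (Or.inr (Finset.mem_singleton.2 h))

theorem card_SS_le : 2 * (SS (F := F)).card + 1 ≤ Fintype.card F := by
  have h1 : 2 * (SS (F := F)).card ≤ (US (F := F)).card := by
    refine Finset.mul_card_image_le_card_of_maps_to (f := fun β : F => β + β⁻¹) (fun a ha => ?_) 2 fun b hb => ?_
    · exact Finset.mem_image_of_mem _ ha
    · obtain ⟨γ, hγ, rfl⟩ := Finset.mem_image.1 hb
      obtain ⟨hγ0, hγ1⟩ := (Finset.mem_filter.1 hγ).2
      have hne : γ ≠ γ⁻¹ := by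
        intro h
        apply hγ1
        rw [pow_two]
        nth_rewrite 2 [h]
        exact mul_inv_cancel₀ hγ0
      rw [← Finset.card_pair hne]
      refine Finset.card_le_card fun β hβ => ?_
      rcases Finset.mem_insert.1 hβ with rfl | h
      · exact Finset.mem_filter.2 ⟨hγ, rfl⟩
      · rw [Finset.mem_singleton] at h
        subst h
        refine Finset.mem_filter.2 ⟨Finset.mem_filter.2 ⟨Finset.mem_univ _, inv_ne_zero hγ0, fun h => hγ1 ?_⟩, ?_⟩
        · rw [inv_pow, inv_eq_one] at h
          exact h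
        · rw [inv_inv, add_comm]
  have h2 : (US (F := F)).card < Fintype.card F := by
    rw [← Finset.card_univ]
    refine Finset.card_lt_card ⟨Finset.subset_univ _, fun h => ?_⟩
    have := h (Finset.mem_univ (0 : F))
    exact (Finset.mem_filter.1 this).2.1 rfl
  omega

/-- split pairs -/
def PA : Finset (Fin 2 → F) := prs SS fun s => SS.erase s

theorem card_PA (hq : 10 ≤ Fintype.card F) : Fintype.card F ^ 2 ≤ 16 * (PA (F := F)).card := by
  have h1 : (SS (F := F)).card * ((SS (F := F)).card - 1) ≤ (PA (F := F)).card := by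
    refine card_prs fun s hs => ?_
    rw [Finset.card_erase_of_mem hs]
  have h2 := card_US_ge (F := F)
  have h3 := card_US_le (F := F)
  have h4 : Fintype.card F + 4 ≤ 4 * (SS (F := F)).card := by omega
  have h5 : Fintype.card F ≤ 4 * ((SS (F := F)).card - 1) := by omega
  have h6 := Nat.mul_le_mul (show Fintype.card F ≤ 4 * (SS (F := F)).card by omega) h5
  nlinarith

open Classical in
/-- traces of the nonsplit tori, without the elements of order dividing `n` -/
noncomputable def NS (F : Type*) [Field F] [Fintype F] (n : ℕ) : Finset F :=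
  Finset.univ.filter fun s => ∃ α : AlgebraicClosure F, α ^ 2 + 1 = algebraMap F (AlgebraicClosure F) s * α ∧
    α ^ (Fintype.card F + 1) = 1 ∧ α ^ n ≠ 1

theorem card_NS {n : ℕ} (hn : 0 < n) : Fintype.card F ≤ 2 * (NS F n).card + 2 * n + 3 := by
  classical
  let φ := algebraMap F (AlgebraicClosure F)
  let exc : Finset F := Finset.univ.filter fun s => ∃ α : AlgebraicClosure F, α ^ 2 + 1 = φ s * α ∧ α ^ n = 1
  let spl : Finset F := Finset.univ.filter fun s => ∃ β : F, β ^ 2 + 1 = s * β
  have hexc : exc.card ≤ n := by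
    have h1 : ∀ s ∈ exc, ∃ α : AlgebraicClosure F, α ^ 2 + 1 = φ s * α ∧ α ^ n = 1 := fun s hs =>
      (Finset.mem_filter.1 hs).2
    choose! a ha1 ha2 using h1
    have h2 : exc.card ≤ (Polynomial.nthRoots n (1 : AlgebraicClosure F)).toFinset.card := by
      refine Finset.card_le_card_of_injOn a (fun s hs => ?_) fun s hs t ht hst => ?_
      · rw [Finset.mem_coe, Multiset.mem_toFinset, Polynomial.mem_nthRoots hn]
        exact ha2 s hs
      · have h3 := ha1 s hs
        have h4 := ha1 t ht
        have h0 : a t ≠ 0 := by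
          intro h0
          have := ha2 t ht
          rw [h0, zero_pow hn.ne'] at this
          exact zero_ne_one this
        have hst' : a s = a t := hst
        rw [hst', h4] at h3
        exact φ.injective (mul_right_cancel₀ h0 h3.symm)
    exact h2.trans ((Multiset.toFinset_card_le _).trans (Polynomial.card_nthRoots n 1))
  have hspl : 2 * spl.card ≤ Fintype.card F + 3 := by
    have h1 : spl ⊆ SS ∪ {2, -2} := by
      intro s hs
      obtain ⟨β, hβ⟩ := (Finset.mem_filter.1 hs).2
      have hβ0 : β ≠ 0 := by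
        rintro rfl
        rw [zero_pow (by norm_num), zero_add, mul_zero] at hβ
        exact one_ne_zero hβ
      rw [Finset.mem_union]
      by_cases hβ1 : β ^ 2 = 1
      · right
        rcases sq_eq_sq_iff_eq_or_eq_neg.1 (hβ1.trans (one_pow 2).symm) with rfl | rfl
        · rw [Finset.mem_insert]
          left
          linear_combination -hβ
        · rw [Finset.mem_insert, Finset.mem_singleton]
          right
          linear_combination hβ
      · left
        refine Finset.mem_image.2 ⟨β, Finset.mem_filter.2 ⟨Finset.mem_univ _, hβ0, hβ1⟩, ?_⟩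
        field_simp
        linear_combination hβ
    have h2 := Finset.card_le_card h1
    have h3 := Finset.card_union_le (SS (F := F)) {2, -2}
    have h4 : ({2, -2} : Finset F).card ≤ 2 := Finset.card_le_two
    have h5 := card_SS_le (F := F)
    omega
  have hcov : (Finset.univ : Finset F) ⊆ NS F n ∪ (spl ∪ exc) := by
    intro s _
    rw [Finset.mem_union, Finset.mem_union]
    by_cases h1 : s ∈ spl
    · exact Or.inr (Or.inl h1)
    by_cases h2 : s ∈ exc
    · exact Or.inr (Or.inr h2)
    left
    obtain ⟨α, ha1, ha2⟩ := exists_alpha (s := s) (fun β hβ => h1 (Finset.mem_filter.2 ⟨Finset.mem_univ _, β, hβ⟩))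
    exact Finset.mem_filter.2 ⟨Finset.mem_univ _, α, ha1, ha2,
      fun h => h2 (Finset.mem_filter.2 ⟨Finset.mem_univ _, α, ha1, h⟩)⟩
  have h1 := Finset.card_le_card hcov
  have h2 := Finset.card_union_le (NS F n) (spl ∪ exc)
  have h3 := Finset.card_union_le spl exc
  rw [Finset.card_univ] at h1
  omega

/-- nonsplit pairs -/
noncomputable def PC (F : Type*) [Field F] [Fintype F] [DecidableEq F] (n : ℕ) : Finset (Fin 2 → F) :=
  prs (NS F n) fun s => Finset.univ.erase s

theorem card_PC {n : ℕ} (hn : 0 < n) (hq : 4 * n + 6 ≤ Fintype.card F) :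
    Fintype.card F ^ 2 ≤ 16 * (PC F n).card := by
  have h1 : (NS F n).card * (Fintype.card F - 1) ≤ (PC F n).card := by
    refine card_prs fun s _ => ?_
    rw [Finset.card_erase_of_mem (Finset.mem_univ _), Finset.card_univ]
  have h2 := card_NS (F := F) hn
  have h3 : Fintype.card F ≤ 4 * (NS F n).card := by omega
  have h4 : Fintype.card F ≤ 4 * (Fintype.card F - 1) := by omega
  have h5 := Nat.mul_le_mul h3 h4
  nlinarith

end Cfsg.Agent.H618.Dp
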