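import Cfsg.Agent.H618.Dp.Red
import Cfsg.Agent.H618.Dp.AvoidF
import Cfsg.Agent.H618.Dp.AvoidQ
import Cfsg.Agent.H618.Dp.PairCount
import Cfsg.Agent.H264.FKS.Socle
import Cfsg.Agent.H934.OutB
import Cfsg.Agent.S2602
import Cfsg.Agent.S2126
import Cfsg.Agent.S1163

/-!
# S5734, the row `PSp_4(q)`: the cases
-/

set_option autoImplicit false

namespace Cfsg.Agent.H618.Dp

open Cfsg Cfsg.Geo
open Cfsg.Agent.ClassicalGeometry.SympBasic Cfsg.Agent.H876 Cfsg.Agent.H931
open Cfsg.Agent.H262.El (pre mem_pre pre_le pre_ne spToGL_injective)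
open Cfsg.Agent.H851.Dg (nd CycP)
open Cfsg.Agent.H884.El (PP)
open scoped Matrix MatrixGroups

section Arith

variable {F : Type*} [Field F] [Fintype F]

theorem pp_of_dvd {q u : ℕ} (hu : u.Prime) (hu2 : u ≠ 2) (h : u ∣ q ^ 2 + 1) : PP q 4 u := by
  have := Fact.mk hu
  have h1 : ((q : ZMod u)) ^ 2 = -1 := by
    have h2 : ((q ^ 2 + 1 : ℕ) : ZMod u) = 0 := (ZMod.natCast_eq_zero_iff _ _).2 h
    push_cast at h2
    exact eq_neg_of_add_eq_zero_left h2
  refine ⟨hu, ?_⟩
  have h3 := orderOf_eq_prime_pow (x := (q : ZMod u)) (p := 2) (n := 1) (by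
    rw [pow_one, h1]
    intro h4
    have h5 : ((2 : ℕ) : ZMod u) = 0 := by
      push_cast
      linear_combination -h4
    rw [ZMod.natCast_eq_zero_iff] at h5
    exact hu2 ((Nat.prime_dvd_prime_iff_eq hu Nat.prime_two).1 h5)) (by
    rw [show (2 : ℕ) ^ (1 + 1) = 2 * 2 by norm_num, pow_mul, h1]
    ring)
  rw [h3]
  norm_num

theorem exists_odd_dvd (q : ℕ) : ∃ d : ℕ, Odd d ∧ d ∣ q ^ 2 + 1 ∧ q ^ 2 + 1 ≤ 2 * d := by
  rcases Nat.even_or_odd q with ⟨k, hk⟩ | ⟨k, hk⟩
  · refine ⟨q ^ 2 + 1, ?_, dvd_rfl, by omega⟩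
    exact ⟨2 * k ^ 2, by rw [hk]; ring⟩
  · refine ⟨2 * (k ^ 2 + k) + 1, ⟨_, rfl⟩, ⟨2, by rw [hk]; ring⟩, ?_⟩
    rw [hk]
    nlinarith

/-- `|Sp_4(q)| = q⁴ (q² - 1)² (q² + 1)`. -/
theorem card_sp4 : Nat.card (spGL 2 F) = Nat.card F ^ 4 * (Nat.card F ^ 2 - 1) ^ 2 * (Nat.card F ^ 2 + 1) := by
  rw [Cfsg.Agent.H955.card_spGL]
  simp only [Finset.prod_range_succ, Finset.prod_range_zero, one_mul]
  have h1 : 1 ≤ Nat.card F ^ 2 := Nat.one_le_pow _ _ Nat.card_pos
  have h2 : Nat.card F ^ (2 * (1 + 1)) - 1 = (Nat.card F ^ 2 - 1) * (Nat.card F ^ 2 + 1) := by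
    have h3 : Nat.card F ^ (2 * (1 + 1)) = (Nat.card F ^ 2) ^ 2 := by rw [← pow_mul]
    rw [h3]
    obtain ⟨k, hk⟩ := Nat.exists_eq_add_of_le h1
    rw [hk]
    rw [show 1 + k - 1 = k by omega]
    have h4 : (1 + k) ^ 2 = 1 + k * (1 + k + 1) := by ring
    rw [h4]
    omega
  rw [h2]
  norm_num
  ring

variable {R : Subgroup (PSp 2 F)}

/-- all prime powers of `q ^ 2 + 1` occur -/
def Hall (R : Subgroup (PSp 2 F)) : Prop :=
  ∀ u j : ℕ, PP (Nat.card F) 4 u → 1 ≤ j → u ^ j ∣ Nat.card (PSp 2 F) → u ^ j ∣ Nat.card R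

theorem pow_dvd_psp {u j : ℕ} (hu : u.Prime) (hu2 : u ≠ 2) (h : u ^ j ∣ Nat.card F ^ 2 + 1) :
    u ^ j ∣ Nat.card (PSp 2 F) := by
  have h1 : u ^ j ∣ Nat.card (spGL 2 F) := by
    rw [card_sp4]
    exact h.mul_left _
  rw [← card_ker] at h1
  have h2 : Nat.Coprime (u ^ j) (Nat.card (prj (m := 2) (F := F)).ker) :=
    Nat.Coprime.pow_left _ (Nat.Coprime.coprime_dvd_right (card_ker_dvd (by norm_num))
      ((Nat.coprime_primes hu Nat.prime_two).2 hu2))
  exact h2.dvd_of_dvd_mul_left h1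

theorem Hall.dvd (h : Hall R) {d : ℕ} (hd : Odd d) (hdq : d ∣ Nat.card F ^ 2 + 1) : d ∣ Nat.card R := by
  rw [Nat.dvd_iff_prime_pow_dvd_dvd]
  intro p k hp hpk
  rcases Nat.eq_zero_or_pos k with rfl | hk
  · rw [pow_zero]
    exact one_dvd _
  have h1 : p ∣ d := (dvd_pow_self p (by omega)).trans hpk
  have h2 : p ≠ 2 := by
    rintro rfl
    exact (Nat.not_even_iff_odd.2 hd) (even_iff_two_dvd.2 h1)
  exact h p k (pp_of_dvd hp h2 (h1.trans hdq)) hk (pow_dvd_psp hp h2 (hpk.trans hdq))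

theorem Hall.hits (h : Hall R) {r : ℕ} (hr : PP (Nat.card F) 4 r) : r ∣ Nat.card (pre R) := by
  have hr2 : r ≠ 2 := by have := hr.lt (by omega); omega
  have h1 : r ∣ Nat.card F ^ 2 + 1 := by
    have h2 : r ∣ Nat.card F ^ 4 - 1 := (hr.dvd_iff Nat.card_pos 4).2 dvd_rfl
    have h3 : ¬ r ∣ Nat.card F ^ 2 - 1 := by
      rw [hr.dvd_iff Nat.card_pos]
      decide
    have h4 : Nat.card F ^ 4 - 1 = (Nat.card F ^ 2 - 1) * (Nat.card F ^ 2 + 1) := by
      have h5 : 1 ≤ Nat.card F ^ 2 := Nat.one_le_pow _ _ Nat.card_pos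
      have h6 : Nat.card F ^ 4 = (Nat.card F ^ 2) ^ 2 := by rw [← pow_mul]
      rw [h6]
      obtain ⟨k, hk⟩ := Nat.exists_eq_add_of_le h5
      rw [hk, show 1 + k - 1 = k by omega, show (1 + k) ^ 2 = 1 + k * (1 + k + 1) by ring]
      omega
    rw [h4] at h2
    exact (hr.prime.dvd_mul.1 h2).resolve_left h3
  rw [card_pre]
  have h2 := h r 1 hr le_rfl (by
    rw [pow_one]
    have := pow_dvd_psp (F := F) (j := 1) hr.prime hr2 (by rwa [pow_one])
    rwa [pow_one] at this)
  rw [pow_one] at h2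
  exact h2.mul_right _

/-- dichotomy -/
theorem hall_or (R : Subgroup (PSp 2 F)) : Nat.card (PSp 2 F) ≤ 8 * nd R ∨ Hall R := by
  by_cases h : Hall R
  · exact Or.inr h
  left
  unfold Hall at h
  push Not at h
  obtain ⟨u, j, hu, hj, h1, h2⟩ := h
  exact card_le_of_miss (m := 2) (by norm_num) hu hj h1 h2

end Arith

section SympType

variable {F : Type*} [Field F]

/-- the order of the normaliser of an absolutely irreducible group of order 32 in `Sp_4(q)` -/
theorem card_symp_le [Finite F] {R₀ H : Subgroup (GL I4 F)} (habs : ActsAbsolutelyIrreducibly (matrixSet R₀))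
    (hc : Nat.card R₀ = 32) (hH : H ≤ Subgroup.normalizer (R₀ : Set (GL I4 F))) (hHs : H ≤ spGL 2 F) :
    Nat.card H ≤ 2 * 32 ^ 32 := by
  classical
  have hfin : Finite (GL I4 F) := inferInstance
  let ψ : H →* MulAut R₀ := R₀.normalizerMonoidHom.comp (Subgroup.inclusion hH)
  have h1 : Nat.card (MulAut R₀) ≤ 32 ^ 32 := by
    have h2 : Nat.card (MulAut R₀) ≤ Nat.card (R₀ → R₀) :=
      Nat.card_le_card_of_injective (fun f : MulAut R₀ => (f : R₀ → R₀)) DFunLike.coe_injective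
    rw [Nat.card_fun, hc] at h2
    exact h2
  have h2 : Nat.card ψ.ker ≤ 2 := by
    have key : ∀ h : ψ.ker, ∃ c : F, ((h : H) : GL I4 F).1 = c • (1 : Matrix I4 I4 F) ∧ c ^ 2 = 1 := by
      intro h
      have h3 : Subgroup.inclusion hH (h : H) ∈ R₀.normalizerMonoidHom.ker := by
        rw [MonoidHom.mem_ker]
        exact (MonoidHom.mem_ker.1 h.2)
      rw [Subgroup.normalizerMonoidHom_ker, Subgroup.mem_subgroupOf, Subgroup.mem_centralizer_iff] at h3
      obtain ⟨c, hc⟩ := habs.2 ((h : H) : GL I4 F).1 (by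
        rintro _ ⟨x, hx, rfl⟩
        have h4 := h3 x hx
        exact (congrArg (fun g : GL I4 F => (g : Matrix I4 I4 F)) h4).symm)
      refine ⟨c, hc, ?_⟩
      have h4 := mem_spGL_iff.1 (hHs (h : H).2) (Pi.single (Sum.inr 0) 1) (Pi.single (Sum.inl 0) 1)
      rw [hc, Matrix.smul_mulVec, Matrix.smul_mulVec, Matrix.one_mulVec, Matrix.one_mulVec, sympForm_smul_left,
        sympForm_smul_right, sympForm_single_inr_left, Pi.single_eq_same] at h4
      linear_combination h4
    choose c hc1 hc2 using key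
    have h3 : Nat.card ψ.ker ≤ Nat.card ({1, -1} : Set F) := by
      refine Nat.card_le_card_of_injective (fun h => (⟨c h, ?_⟩ : ({1, -1} : Set F))) fun h h' hh => ?_
      · rcases sq_eq_sq_iff_eq_or_eq_neg.1 ((hc2 h).trans (one_pow 2).symm) with h4 | h4
        · exact Or.inl h4
        · exact Or.inr h4
      · have h4 : c h = c h' := congrArg Subtype.val hh
        apply Subtype.ext
        apply Subtype.ext
        apply Units.ext
        rw [hc1, hc1, h4]
    refine h3.trans ?_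
    have h4 : Nat.card ({1, -1} : Set F) = ({1, -1} : Set F).ncard := rfl
    rw [h4]
    exact (Set.ncard_insert_le _ _).trans (by rw [Set.ncard_singleton])
  have h3 : Nat.card H = Nat.card ψ.ker * Nat.card ψ.range := by
    rw [Subgroup.card_eq_card_quotient_mul_card_subgroup ψ.ker, mul_comm]
    congr 1
    exact Nat.card_congr (QuotientGroup.quotientKerEquivRange ψ).toEquiv
  have h4 : Nat.card ψ.range ≤ Nat.card (MulAut R₀) :=
    Nat.card_le_card_of_injective _ ψ.range.subtype_injective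
  rw [h3]
  exact Nat.mul_le_mul h2 (h4.trans h1)

end SympType

section Max

variable {F : Type*} [Field F] {m : ℕ}

/-- the preimage of a maximal subgroup is maximal (as in H264.FKS) -/
theorem isMaximalIn_pre {R : Subgroup (PSp m F)} (hR : IsCoatom R) : IsMaximalIn (spGL m F) (pre R) := by
  refine ⟨lt_of_le_of_ne (pre_le R) (pre_ne hR.1), fun M h1 h2 => ?_⟩
  let R' : Subgroup (PSp m F) :=
    (M.comap (spToGL m F)).map (QuotientGroup.mk' (Subgroup.center (Matrix.symplecticGroup (Fin m) F)))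
  have hM : M = pre R' := by
    apply le_antisymm
    · intro x hx
      obtain ⟨A, rfl⟩ := exists_spToGL (h2 hx)
      rw [mem_pre]
      exact ⟨A, hx, rfl⟩
    · intro x hx
      obtain ⟨A, rfl⟩ := exists_spToGL (pre_le R' hx)
      rw [mem_pre] at hx
      obtain ⟨B, hB, hBA⟩ := hx
      have h3 : B⁻¹ * A ∈ Subgroup.center (Matrix.symplecticGroup (Fin m) F) := QuotientGroup.eq.1 hBA
      have h4 : spToGL m F (B⁻¹ * A) ∈ pre R := by
        rw [mem_pre, (QuotientGroup.eq_one_iff _).2 h3]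
        exact R.one_mem
      have h5 := M.mul_mem hB (h1 h4)
      rwa [← map_mul, mul_inv_cancel_left] at h5
  have h3 : R ≤ R' := by
    intro x hx
    obtain ⟨A, rfl⟩ := QuotientGroup.mk_surjective x
    exact ⟨A, h1 (mem_pre.2 hx), rfl⟩
  rcases eq_or_lt_of_le h3 with h | h
  · left
    rw [hM, ← h]
  · right
    have h4 := hR.2 _ h
    rw [hM, h4]
    apply le_antisymm (pre_le _)
    intro x hx
    obtain ⟨A, rfl⟩ := exists_spToGL hx
    rw [mem_pre]
    trivial

theorem hker_sp (x : Matrix.symplecticGroup (Fin m) F) :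
    QuotientGroup.mk' (Subgroup.center (Matrix.symplecticGroup (Fin m) F)) x = 1 ↔
      spToGL m F x ∈ scalars (Fin m ⊕ Fin m) F := by
  rw [show QuotientGroup.mk' (Subgroup.center (Matrix.symplecticGroup (Fin m) F)) x = 1 ↔
    x ∈ Subgroup.center (Matrix.symplecticGroup (Fin m) F) from QuotientGroup.eq_one_iff x]
  constructor
  · intro h
    obtain ⟨a, ha⟩ := (LieClassical.SympCenter.mem_center_iff m x).1 h
    rcases isEmpty_or_nonempty (Fin m ⊕ Fin m) with hι | ⟨⟨i⟩⟩
    · have : spToGL m F x = 1 := Units.ext (by ext i; exact (hι.false i).elim)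
      rw [this]
      exact Subgroup.one_mem _
    · have ha0 : a ≠ 0 := by
        rintro rfl
        rw [zero_smul] at ha
        have h3 : (0 : Matrix (Fin m ⊕ Fin m) (Fin m ⊕ Fin m) F) = 1 := by
          have h1 : x.1 * (x⁻¹).1 = 1 := congrArg Subtype.val (mul_inv_cancel x)
          rw [ha, zero_mul] at h1
          exact h1
        have h4 := congrFun (congrFun h3 i) i
        rw [Matrix.zero_apply, Matrix.one_apply_eq] at h4
        exact zero_ne_one h4
      refine ⟨Units.mk0 a ha0, Units.ext ?_⟩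
      ext i j
      have h5 := congrFun (congrFun ha i) j
      change (Matrix.scalar (Fin m ⊕ Fin m) a) i j = x.1 i j
      rw [h5, Matrix.scalar_apply, Matrix.smul_apply, Matrix.diagonal_apply, Matrix.one_apply]
      split_ifs <;> simp
  · rintro ⟨u, hu⟩
    refine (LieClassical.SympCenter.mem_center_iff m x).2 ⟨(u : F), ?_⟩
    have h1 := congrArg Units.val hu
    ext i j
    have h5 := congrFun (congrFun h1 i) j
    change (Matrix.scalar (Fin m ⊕ Fin m) (u : F)) i j = x.1 i j at h5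
    rw [← h5, Matrix.scalar_apply, Matrix.smul_apply, Matrix.diagonal_apply, Matrix.one_apply]
    split_ifs <;> simp

theorem dvd_aut {R : Type*} [Group R] [Finite R] (S : Subgroup R) [S.Normal]
    (hC : Subgroup.centralizer (S : Set R) = ⊥) : Nat.card R ∣ Nat.card (MulAut S) := by
  have hinj : Function.Injective (MulAut.conjNormal : R →* MulAut S) := by
    rw [← MonoidHom.ker_eq_bot_iff, eq_bot_iff]
    intro x hx
    rw [← hC, Subgroup.mem_centralizer_iff]
    intro y hy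
    have h1 := DFunLike.congr_fun ((MonoidHom.mem_ker).1 hx) ⟨y, hy⟩
    have h2 := congrArg Subtype.val h1
    rw [MulAut.conjNormal_apply, MulAut.one_apply] at h2
    exact (mul_inv_eq_iff_eq_mul.1 h2).symm
  rw [Nat.card_congr ((MulAut.conjNormal : R →* MulAut S).ofInjective hinj).toEquiv]
  exact Subgroup.card_subgroup_dvd_card _

/-- the order of a group in the residual class -/
theorem dvd_of_core [Finite F] {R : Subgroup (PSp m F)} {P : Subgroup (GL (Fin m ⊕ Fin m) F)}
    (hP : IsResidualCore (pre R) P) {Y : Type*} [Group Y]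
    (e : P ⧸ (scalars (Fin m ⊕ Fin m) F).subgroupOf P ≃* Y) :
    Nat.card R ∣ Nat.card (Cfsg.Out Y) * Nat.card Y ∧ Nat.card R ∣ Nat.card (MulAut Y) := by
  have hfin : Finite (GL (Fin m ⊕ Fin m) F) := inferInstance
  have hfinT : Finite (PSp m F) := Finite.of_surjective _ (prj_surjective (m := m) (F := F))
  obtain ⟨S, h1, h2, h3, h4, ⟨e'⟩⟩ := H264.FKS.exists_socle (spToGL m F) spToGL_injective
    (QuotientGroup.mk' (Subgroup.center (Matrix.symplecticGroup (Fin m) F))) (QuotientGroup.mk'_surjective _)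
    hker_sp (M := R) hP
  have h5 := dvd_aut S h4
  constructor
  · rwa [← H934.OutB.card_out_mul S h3, H934.OutB.card_out_congr (e'.trans e), Nat.card_congr (e'.trans e).toEquiv] at h5
  · rwa [Nat.card_congr (MulAut.congr (e'.trans e)).toEquiv] at h5

end Max

end Cfsg.Agent.H618.Dp
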