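import Cfsg.Agent.H618.Dp.Cases
import Cfsg.Agent.S5787
import Cfsg.Agent.S5790
import Cfsg.Prelude.Def_Sz

/-!
# S5734, the row `PSp_4(q)`: maximal subgroups

`bound` : `|PSp_4(q)| ≤ 128 nd R` for maximal `R`, `q` large (from S5788, S5791).
-/

set_option autoImplicit false

namespace Cfsg.Agent.H618.Dp

open Cfsg Cfsg.Geo
open Cfsg.Agent.ClassicalGeometry.SympBasic Cfsg.Agent.H876 Cfsg.Agent.H931
open Cfsg.Agent.H262.El (pre mem_pre pre_le pre_ne spToGL_injective not_le_of_irr selfAdjoint_of_irr mem_isometry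
  totallySingular_ne_top)
open Cfsg.Agent.H851.Dg (nd CycP RowB one_le_nd)
open Cfsg.Agent.H884.El (PP)
open scoped Matrix MatrixGroups

/-- the statement of S5788 -/
def ResOdd : Prop :=
  ∀ {F : Type} [Field F] [Fintype F] (_ : Odd (Fintype.card F)) (H : Subgroup (Matrix.GeneralLinearGroup (Fin 2 ⊕ Fin 2) F)) (_ : Cfsg.Geo.IsMaximalIn (Cfsg.spGL 2 F) H) (_ : Cfsg.Geo.InSymplecticResidualClass H),
    ∃ (P : Subgroup (Matrix.GeneralLinearGroup (Fin 2 ⊕ Fin 2) F)) (p : ℕ), Cfsg.Geo.IsResidualCore H P ∧ p.Prime ∧ CharP F p ∧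
    ((Nonempty ((P ⧸ (Cfsg.Geo.scalars (Fin 2 ⊕ Fin 2) F).subgroupOf P) ≃* alternatingGroup (Fin 6)) ∧ Fintype.card F = p ∧ 5 ≤ p ∧ p ≠ 7) ∨
     (Nonempty ((P ⧸ (Cfsg.Geo.scalars (Fin 2 ⊕ Fin 2) F).subgroupOf P) ≃* alternatingGroup (Fin 7)) ∧ Fintype.card F = 7) ∨
     (Nonempty ((P ⧸ (Cfsg.Geo.scalars (Fin 2 ⊕ Fin 2) F).subgroupOf P) ≃* Matrix.ProjectiveSpecialLinearGroup (Fin 2) F) ∧ 5 ≤ p ∧ 7 < Fintype.card F))

/-- the statement of S5791 -/
def ResEven : Prop :=
  ∀ {F : Type} [Field F] [Fintype F] (_ : ¬ Odd (Fintype.card F)) (_ : 4 ≤ Fintype.card F) (H : Subgroup (Matrix.GeneralLinearGroup (Fin 2 ⊕ Fin 2) F)) (_ : Cfsg.Geo.IsMaximalIn (Cfsg.spGL 2 F) H) (_ : Cfsg.Geo.InSymplecticResidualClass H),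
    ∃ (P : Subgroup (Matrix.GeneralLinearGroup (Fin 2 ⊕ Fin 2) F)) (m : ℕ), Cfsg.Geo.IsResidualCore H P ∧ 1 ≤ m ∧ Fintype.card F = 2 ^ (2 * m + 1) ∧
    Nonempty ((P ⧸ (Cfsg.Geo.scalars (Fin 2 ⊕ Fin 2) F).subgroupOf P) ≃* Cfsg.Lie.Sz F (2 ^ (m + 1)))

/-- the bound for the small maximal subgroups -/
noncomputable def B0 : ℕ :=
  2 * 32 ^ 32 + Nat.card (MulAut (alternatingGroup (Fin 6))) + Nat.card (MulAut (alternatingGroup (Fin 7)))

variable {F : Type} [Field F] [Fintype F] {R : Subgroup (PSp 2 F)}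

theorem small_false (h : Hall R) (hR : Nat.card R ≤ B0) (hq : 2 * B0 ≤ Fintype.card F) : False := by
  obtain ⟨d, hd, hdq, hdle⟩ := exists_odd_dvd (Nat.card F)
  have h1 := Nat.le_of_dvd Nat.card_pos (h.dvd hd hdq)
  rw [Nat.card_eq_fintype_card] at hdle
  have h2 : Fintype.card F ^ 2 ≤ 2 * B0 := by omega
  have h3 : 1 < Fintype.card F := Fintype.one_lt_card
  nlinarith

/-- from the family count to the bound -/
theorem le_of_pairs {P : Finset (Fin 2 → F)} (h16 : Fintype.card F ^ 2 ≤ 16 * P.card) (hP : ∀ S ∈ P, S 0 ≠ S 1)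
    (hR : ∀ S ∈ P, ∀ g : spGL 2 F, (g * XS S * g⁻¹ : spGL 2 F).1 ∉ pre R) : Nat.card (PSp 2 F) ≤ 128 * nd R := by
  have h1 := row_of_family P hP hR
  rw [Nat.card_eq_fintype_card (α := F)] at h1
  have h2 : 0 < Fintype.card F ^ 2 := by
    have : 1 < Fintype.card F := Fintype.one_lt_card
    positivity
  refine Nat.le_of_mul_le_mul_left (?_ : Fintype.card F ^ 2 * _ ≤ _) h2
  calc Fintype.card F ^ 2 * Nat.card (PSp 2 F) ≤ 16 * P.card * Nat.card (PSp 2 F) := Nat.mul_le_mul_right _ h16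
    _ = 16 * (P.card * Nat.card (PSp 2 F)) := by ring
    _ ≤ 16 * (8 * Fintype.card F ^ 2 * nd R) := Nat.mul_le_mul_left _ h1
    _ = _ := by ring

omit [Fintype F] in
theorem coe_conj (g : spGL 2 F) (S : Fin 2 → F) :
    (g * XS S * g⁻¹ : spGL 2 F).1 = (g : GL I4 F) * X S * (g : GL I4 F)⁻¹ := rfl

/-- **Fields.** -/
theorem case_field (hq : 4 ≤ Fintype.card F) {K : Subalgebra F (Matrix I4 I4 F)} (hK : IsFieldSubalgebra 2 K)
    (h0 : ∀ k ∈ K, ∀ v, sympForm 2 F (k *ᵥ v) v = 0) (hH : pre R ≤ subalgebraNormalizer K) :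
    Nat.card (PSp 2 F) ≤ 128 * nd R := by
  classical
  refine le_of_pairs (P := PB) (card_PB hq) (fun S hS h => ?_) fun S hS g hg => ?_
  · have h1 := (Finset.mem_filter.1 (mem_prs hS).2).2
    exact h1 (by rw [h])
  · rw [coe_conj] at hg
    exact avoid_field hK h0 (Finset.mem_filter.1 (mem_prs hS).2).2 g.2 (hH hg)

/-- **Orthogonal groups.** -/
theorem case_quad (hq : 10 ≤ Fintype.card F) (hall : Hall R) {Q : (I4 → F) → F} (hQ : IsNondegenerateQuadraticForm Q)
    (hpol : ∀ u v, QuadraticMap.polar Q u v = sympForm 2 F u v) (hH : pre R ≤ isometryGroup F Q) :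
    Nat.card (PSp 2 F) ≤ 128 * nd R := by
  classical
  obtain ⟨r, hr⟩ := Cfsg.Agent.H884.El.exists_pp (q := Nat.card F) (e := 4) (by
    rw [Nat.card_eq_fintype_card]; omega) (by norm_num) (by rintro ⟨-, h⟩; omega)
  refine le_of_pairs (P := PA) (card_PA hq) (fun S hS h => ?_) fun S hS g hg => ?_
  · exact (Finset.mem_erase.1 (mem_prs hS).2).1 h.symm
  · rw [coe_conj] at hg
    obtain ⟨h1, h2⟩ := mem_prs hS
    have key : ∀ i : Fin 2, ∃ β : F, β ^ 2 + 1 = S i * β ∧ β ^ 2 ≠ 1 := by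
      intro i
      have h3 : S i ∈ SS := by
        fin_cases i
        · exact h1
        · exact (Finset.mem_erase.1 h2).2
      obtain ⟨β, hβ, hβS⟩ := Finset.mem_image.1 h3
      obtain ⟨hβ0, hβ1⟩ := (Finset.mem_filter.1 hβ).2
      refine ⟨β, ?_, hβ1⟩
      rw [← hβS]
      field_simp
    choose β hβ1 hβ2 using key
    exact avoid_quad hQ hpol hH hr (hall.hits hr) hβ1 hβ2 g.2 hg

/-- **Suzuki groups.** -/
theorem case_sz {n : ℕ} (hn : 0 < n) (hq4 : 4 * n + 6 ≤ Fintype.card F) (heven : Even (Fintype.card F))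
    (hR : Nat.card R ∣ n * (Fintype.card F ^ 2 * (Fintype.card F - 1) * (Fintype.card F ^ 2 + 1))) :
    Nat.card (PSp 2 F) ≤ 128 * nd R := by
  classical
  refine le_of_pairs (P := PC F n) (card_PC hn hq4) (fun S hS h => ?_) fun S hS g hg => ?_
  · exact (Finset.mem_erase.1 (mem_prs hS).2).1 h.symm
  · rw [coe_conj] at hg
    obtain ⟨α, ha1, ha2, ha3⟩ := (Finset.mem_filter.1 (mem_prs hS).1).2
    apply ha3
    set q := Fintype.card F with hqdef
    set N := Nat.card (pre R) with hN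
    -- `X ^ N = 1`
    have hfin : Finite (GL I4 F) := inferInstance
    have h1 : (X S : GL I4 F) ^ N = 1 := by
      have h2 : ((g : GL I4 F) * X S * (g : GL I4 F)⁻¹) ^ N = 1 := by
        have h3 := pow_card_eq_one' (x := (⟨_, hg⟩ : pre R))
        exact congrArg Subtype.val h3
      rw [conj_pow] at h2
      have h3 := mul_inv_eq_one.1 h2
      exact mul_eq_left.1 h3
    have h2 : α ^ N = 1 := pow_eq_one_ext (algebraMap F (AlgebraicClosure F)) ha1 h1
    -- `N ∣ n * (...)`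
    have hq1 : 1 ≤ q := Fintype.card_pos
    have hker : Nat.card (prj (m := 2) (F := F)).ker = 1 := by
      have h3 := card_ker_dvd (m := 2) (F := F) (by norm_num)
      rcases (Nat.dvd_prime Nat.prime_two).1 h3 with h4 | h4
      · exact h4
      · exfalso
        -- the kernel is the centre, of order `gcd(2, q - 1) = 1`
        have h5 : Nat.card (prj (m := 2) (F := F)).ker =
            Nat.card (Subgroup.center (Matrix.symplecticGroup (Fin 2) F)) := by
          refine Nat.card_congr ⟨fun x => ⟨(eSp (m := 2) (F := F)).symm x.1, ?_⟩, fun A => ⟨eSp A.1, ?_⟩,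
            fun x => ?_, fun A => ?_⟩
          · have h2 := x.2
            rw [MonoidHom.mem_ker] at h2
            exact (QuotientGroup.eq_one_iff _).1 h2
          · rw [MonoidHom.mem_ker, prj_eSp]
            exact (QuotientGroup.eq_one_iff _).2 A.2
          · exact Subtype.ext (MulEquiv.apply_symm_apply _ _)
          · exact Subtype.ext (MulEquiv.symm_apply_apply _ _)
        rw [h5, Cfsg.Agent.S0246.result (q := Fintype.card F) rfl 2 (by norm_num)] at h4
        have h6 : 2 ∣ q - 1 := h4 ▸ Nat.gcd_dvd_right _ _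
        obtain ⟨k, hk⟩ := heven
        omega
    have hNd : N ∣ n * (q ^ 2 * (q - 1) * (q ^ 2 + 1)) := by
      rw [hN, card_pre, hker, mul_one]
      exact hR
    -- coprimality
    have hodd : Odd (q + 1) := heven.add_one
    have c1 : Nat.Coprime (q + 1) q := by
      rw [Nat.coprime_comm]
      exact (Nat.coprime_self_add_right (m := q) (n := 1)).2 (Nat.coprime_one_right q)
    have c2 : Nat.Coprime (q + 1) (q - 1) := by
      have h3 : (q + 1).gcd (q - 1) ∣ 2 := by
        have h4 := Nat.dvd_sub (Nat.gcd_dvd_left (q + 1) (q - 1)) (Nat.gcd_dvd_right (q + 1) (q - 1))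
        rwa [show q + 1 - (q - 1) = 2 by omega] at h4
      rcases (Nat.dvd_prime Nat.prime_two).1 h3 with h4 | h4
      · exact h4
      · exfalso
        have h5 : 2 ∣ q + 1 := h4 ▸ Nat.gcd_dvd_left _ _
        exact (Nat.not_even_iff_odd.2 hodd) (even_iff_two_dvd.2 h5)
    have c3 : Nat.Coprime (q + 1) (q ^ 2 + 1) := by
      have h3 : (q + 1).gcd (q ^ 2 + 1) ∣ 2 := by
        have h4 : (q + 1).gcd (q ^ 2 + 1) ∣ (q + 1) * (q - 1) := (Nat.gcd_dvd_left _ _).mul_right _
        have h5 := Nat.dvd_sub (Nat.gcd_dvd_right (q + 1) (q ^ 2 + 1)) h4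
        have h6 : q ^ 2 + 1 - (q + 1) * (q - 1) = 2 := by
          obtain ⟨k, hk⟩ := Nat.exists_eq_add_of_le hq1
          rw [hk, show 1 + k - 1 = k by omega, show (1 + k) ^ 2 + 1 = (1 + k + 1) * k + 2 by ring]
          omega
        rwa [h6] at h5
      rcases (Nat.dvd_prime Nat.prime_two).1 h3 with h4 | h4
      · exact h4
      · exfalso
        have h5 : 2 ∣ q + 1 := h4 ▸ Nat.gcd_dvd_left _ _
        exact (Nat.not_even_iff_odd.2 hodd) (even_iff_two_dvd.2 h5)
    have c4 : Nat.Coprime (q + 1) (q ^ 2 * (q - 1) * (q ^ 2 + 1)) :=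
      Nat.Coprime.mul_right (Nat.Coprime.mul_right (Nat.Coprime.pow_right 2 c1) c2) c3
    have h3 : orderOf α ∣ q + 1 := orderOf_dvd_of_pow_eq_one ha2
    have h4 : orderOf α ∣ n * (q ^ 2 * (q - 1) * (q ^ 2 + 1)) := (orderOf_dvd_of_pow_eq_one h2).trans hNd
    exact orderOf_dvd_iff_pow_eq_one.1 ((Nat.Coprime.coprime_dvd_left h3 c4).dvd_of_dvd_mul_right h4)

/-- **`PSL_2(q)`.** -/
theorem case_psl (h4 : 4 ≤ Fintype.card F) (hall : Hall R)
    (hR : Nat.card R ∣ Nat.card (Cfsg.Out (Matrix.ProjectiveSpecialLinearGroup (Fin 2) F)) *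
      Nat.card (Matrix.ProjectiveSpecialLinearGroup (Fin 2) F)) : False := by
  obtain ⟨p, f, hp, hf, hF⟩ := Cfsg.Agent.H884.El.exists_char F
  have := Fact.mk hp
  rw [Nat.card_eq_fintype_card] at hF
  obtain ⟨φ, hφ, -, hφk⟩ := Cfsg.Agent.S2602.result (F := F) (p := p) (f := f) hf hF (by rw [← hF]; exact h4)
  have hfz : NeZero f := ⟨by omega⟩
  -- `|Out| ∣ 2 f`
  have hout : Nat.card (Cfsg.Out (Matrix.ProjectiveSpecialLinearGroup (Fin 2) F)) ∣ 2 * f := by
    rw [Subgroup.card_eq_card_quotient_mul_card_subgroup φ.ker, hφk,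
      Nat.card_congr (QuotientGroup.quotientKerEquivOfSurjective φ hφ).toEquiv,
      Nat.card_congr Multiplicative.toAdd, Nat.card_zmod, mul_comm]
    exact Nat.mul_dvd_mul_right (Nat.gcd_dvd_left _ _) _
  -- `|PSL_2(q)| ∣ (q² - 1) (q² - q)`
  set q := Fintype.card F with hq
  have hpsl : Nat.card (Matrix.ProjectiveSpecialLinearGroup (Fin 2) F) ∣ (q ^ 2 - 1) * (q ^ 2 - q) := by
    have h1 : Nat.card (Matrix.ProjectiveSpecialLinearGroup (Fin 2) F) ∣
        Nat.card (Matrix.SpecialLinearGroup (Fin 2) F) := Subgroup.card_quotient_dvd_card _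
    have h2 : Nat.card (Matrix.SpecialLinearGroup (Fin 2) F) ∣ Nat.card (GL (Fin 2) F) :=
      Subgroup.card_dvd_of_injective Matrix.SpecialLinearGroup.toGL Matrix.SpecialLinearGroup.toGL_injective
    have h3 : Nat.card (GL (Fin 2) F) = (q ^ 2 - 1) * (q ^ 2 - q) := by
      rw [Matrix.card_GL_field, Fin.prod_univ_two]
      simp [hq]
    rw [← h3]
    exact h1.trans h2
  obtain ⟨d, hd, hdq, hdle⟩ := exists_odd_dvd q
  have h1 : d ∣ 2 * f * ((q ^ 2 - 1) * (q ^ 2 - q)) := by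
    have h2 := hall.dvd hd (by rw [Nat.card_eq_fintype_card]; exact hdq)
    exact h2.trans (hR.trans (Nat.mul_dvd_mul hout hpsl))
  have hq1 : 1 ≤ q := Fintype.card_pos
  have c0 : Nat.Coprime d 2 := Nat.coprime_two_right.2 hd
  have c1 : Nat.Coprime d (q ^ 2 - 1) := by
    have h3 : d.gcd (q ^ 2 - 1) ∣ 2 := by
      have h4 := Nat.dvd_sub ((Nat.gcd_dvd_left d (q ^ 2 - 1)).trans hdq) (Nat.gcd_dvd_right d (q ^ 2 - 1))
      have h5 : 1 ≤ q ^ 2 := Nat.one_le_pow _ _ hq1
      rwa [show q ^ 2 + 1 - (q ^ 2 - 1) = 2 by omega] at h4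
    rcases (Nat.dvd_prime Nat.prime_two).1 h3 with h4 | h4
    · exact h4
    · exfalso
      have h5 : 2 ∣ d := h4 ▸ Nat.gcd_dvd_left _ _
      exact (Nat.not_even_iff_odd.2 hd) (even_iff_two_dvd.2 h5)
  have c2 : Nat.Coprime d q := by
    have h3 : d.gcd q ∣ 1 := by
      have h4 := (Nat.dvd_add_right ((Nat.gcd_dvd_right d q).mul_right q)).1
        (show d.gcd q ∣ q * q + 1 by rw [← pow_two]; exact (Nat.gcd_dvd_left d q).trans hdq)
      exact h4
    exact Nat.dvd_one.1 h3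
  have c3 : Nat.Coprime d (q ^ 2 - q) := by
    have h4 : q ^ 2 - q = q * (q - 1) := by rw [pow_two, Nat.mul_sub, mul_one]
    have h5 : Nat.Coprime d (q - 1) := Nat.Coprime.coprime_dvd_right (by simpa using Nat.sub_dvd_pow_sub_pow q 1 2) c1
    rw [h4]
    exact Nat.Coprime.mul_right c2 h5
  have h2 : d ∣ f := by
    have h3 := (Nat.Coprime.mul_right c1 c3).dvd_of_dvd_mul_right h1
    exact c0.dvd_of_dvd_mul_left h3
  have h3 := Nat.le_of_dvd (by omega) h2
  have h5 : f < q := by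
    rw [hF]
    exact lt_of_lt_of_le Nat.lt_two_pow_self (Nat.pow_le_pow_left hp.two_le f)
  nlinarith

/-- **The maximal subgroups of `PSp_4(q)`, `q` large.** -/
theorem bound (h88 : ResOdd) (h91 : ResEven) (hq : 2 * B0 ≤ Fintype.card F) (hR : IsCoatom R) :
    Nat.card (PSp 2 F) ≤ 128 * nd R := by
  classical
  have hfin : Finite (GL I4 F) := inferInstance
  have hB : 2 * 32 ^ 32 ≤ B0 := by
    unfold B0
    omega
  have hq10 : 100 ≤ Fintype.card F := by
    have : 100 ≤ 2 * (2 * 32 ^ 32) := by norm_num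
    omega
  rcases hall_or R with h | hall
  · exact h.trans (Nat.mul_le_mul_right _ (by norm_num))
  have hmax := isMaximalIn_pre hR
  have hle := pre_le R
  -- the irreducible prime
  obtain ⟨p, f, hp, hf, hpF⟩ := Cfsg.Agent.H884.El.exists_char F
  have hpF' : Fintype.card F = p ^ f := by rw [← hpF, Nat.card_eq_fintype_card]
  obtain ⟨r, hr⟩ := Cfsg.Agent.H163.PG.exists_ppd (p := p) (f := f) (k := 2 * 2) hp.two_le
    (by omega) (by rintro ⟨-, h6⟩; omega)
  have hod : Cfsg.Agent.H262.El.Od (Fintype.card F) (2 * 2) r := by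
    rw [hpF']
    exact Cfsg.Agent.H262.El.Od.of_ppd hp hf (by omega) hr
  have hrq : PP (Nat.card F) (2 * 2) r := Cfsg.Agent.H262.El.pp_of_od hod
  have hrH : r ∣ Nat.card (pre R) := hall.hits hrq
  obtain ⟨k1, k2, k5, -⟩ := not_le_of_irr (m := 2) le_rfl hp hf hpF' hr hrH
  obtain ⟨g, hgH, hgr, hg1⟩ : ∃ g ∈ pre R, g ^ r = 1 ∧ g ≠ 1 := by
    have := Fact.mk hod.prime
    obtain ⟨g, hg⟩ := exists_prime_orderOf_dvd_card' r hrH
    refine ⟨g, g.2, ?_, ?_⟩
    · rw [← Subgroup.coe_pow, ← hg, pow_orderOf_eq_one]; rfl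
    · intro h1
      have hg2 : g = 1 := Subtype.ext h1
      rw [hg2, orderOf_one] at hg
      exact hod.prime.one_lt.ne hg
  by_cases hodd : Odd (Fintype.card F)
  · rcases S5787.result hodd (pre R) hmax with h | h | h | h | h | h | h | h
    · obtain ⟨W, hW0, hW, hH⟩ := h
      exact absurd (hH.le.trans inf_le_left) (k1 W hW0 (totallySingular_ne_top (by norm_num) hW))
    · obtain ⟨D, hD, hH⟩ := h
      exact absurd (hH.le.trans inf_le_left) (k2 _ _ D hD.decomp)
    · obtain ⟨-, D, hD, -, hH⟩ := h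
      exact absurd (hH.le.trans inf_le_left) (k2 _ _ D hD)
    · obtain ⟨K, hK, -, h0, hH⟩ := h
      exact case_field (by omega) hK h0 (hH.le.trans inf_le_left)
    · obtain ⟨-, K, hK, -, hns, hH⟩ := h
      exfalso
      refine hns (selfAdjoint_of_irr (m := 2) (by decide) (by norm_num) (hle hgH) hrq hgr hg1 hK ?_)
      exact (hH.le.trans inf_le_left) hgH
    · obtain ⟨F₀, s, P, ζ, hs, hcard, -, -, hH⟩ := h
      exact absurd (hH.le.trans inf_le_left) (k5 F₀ s P hs hcard)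
    · obtain ⟨p', R₀, -, -, -, habs, -, hc, -, -, hH⟩ := h
      exfalso
      have h1 := card_symp_le habs hc (hH.le.trans inf_le_left) hle
      have h2 : Nat.card R ≤ Nat.card (pre R) := by
        rw [card_pre]
        exact Nat.le_mul_of_pos_right _ Nat.card_pos
      exact small_false hall (h2.trans (h1.trans hB)) hq
    · obtain ⟨P, p', hP, -, -, h | h | h⟩ := h88 hodd (pre R) hmax h
      · exfalso
        obtain ⟨⟨e⟩, -⟩ := h
        have h1 := Nat.le_of_dvd Nat.card_pos (dvd_of_core hP e).2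
        exact small_false hall (h1.trans (by unfold B0; omega)) hq
      · exfalso
        obtain ⟨⟨e⟩, -⟩ := h
        have h1 := Nat.le_of_dvd Nat.card_pos (dvd_of_core hP e).2
        exact small_false hall (h1.trans (by unfold B0; omega)) hq
      · exfalso
        obtain ⟨⟨e⟩, -⟩ := h
        exact case_psl (by omega) hall (dvd_of_core hP e).1
  · rcases S5790.result hodd (by omega) (pre R) hmax with h | h | h | h | h | h
    · obtain ⟨W, hW0, hW, hH⟩ := h
      exact absurd (hH.le.trans inf_le_left) (k1 W hW0 (totallySingular_ne_top (by norm_num) hW))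
    · obtain ⟨D, hD, hH⟩ := h
      exact absurd (hH.le.trans inf_le_left) (k2 _ _ D hD.decomp)
    · obtain ⟨K, hK, -, h0, hH⟩ := h
      exact case_field (by omega) hK h0 (hH.le.trans inf_le_left)
    · obtain ⟨F₀, s, P, ζ, hs, hcard, -, -, hH⟩ := h
      exact absurd (hH.le.trans inf_le_left) (k5 F₀ s P hs hcard)
    · obtain ⟨Q, hQ, hpol, hH⟩ := h
      refine case_quad (by omega) hall hQ hpol fun x hx => ?_
      have h1 := hH.le hx
      exact mem_isometry (by norm_num) hpol h1.1 h1.2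
    · obtain ⟨P, m, hP, hm, hF, ⟨e⟩⟩ := h91 hodd (by omega) (pre R) hmax h
      have h1 := (dvd_of_core hP e).1
      rw [S2126.result hm hF, (S1163.result hm hF).1, ← hF] at h1
      refine case_sz (n := 2 * m + 1) (by omega) ?_ (Nat.not_odd_iff_even.1 hodd) h1
      -- `4 (2 m + 1) + 6 ≤ 2 ^ (2 m + 1)`
      have h3 : 3 ≤ m := by
        by_contra hcon
        have h4 : m ≤ 2 := by omega
        have h5 : Fintype.card F ≤ 2 ^ 5 := by
          rw [hF]
          exact Nat.pow_le_pow_right (by norm_num) (by omega)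
        norm_num at h5
        omega
      obtain ⟨k, rfl⟩ := Nat.exists_eq_add_of_le h3
      rw [hF]
      have h4 : k + 1 ≤ 2 ^ k := Nat.lt_two_pow_self
      have h5 : 2 ^ (2 * (3 + k) + 1) = 128 * (2 ^ k * 2 ^ k) := by
        rw [show 2 * (3 + k) + 1 = 7 + (k + k) by ring, pow_add, pow_add]
        norm_num
      rw [h5]
      nlinarith

/-- **The row `PSp_4(q)`.** -/
theorem row_of (h88 : ResOdd) (h91 : ResEven) :
    ∃ c : ℝ, 0 < c ∧ ∀ (F : Type) [Field F] [Fintype F], 3 ≤ Fintype.card F → RowB c (Cfsg.PSp 2 F) := by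
  refine ⟨1 / ((128 : ℝ) + (2 * (B0 : ℝ)) ^ 16), by positivity, fun F _ _ _ K hK => ?_⟩
  classical
  have hfin : Finite (GL I4 F) := inferInstance
  have hfinT : Finite (PSp 2 F) := Finite.of_surjective _ (prj_surjective (m := 2) (F := F))
  rw [div_mul_eq_mul_div, one_mul, div_le_iff₀ (by positivity)]
  by_cases hq : 2 * B0 ≤ Fintype.card F
  · have h1 := bound h88 h91 hq hK
    have h2 : (Nat.card (PSp 2 F) : ℝ) ≤ 128 * (nd K : ℝ) := by exact_mod_cast h1
    have h3 : (0 : ℝ) ≤ (nd K : ℝ) := Nat.cast_nonneg _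
    have h4 : (0 : ℝ) ≤ (2 * (B0 : ℝ)) ^ 16 := by positivity
    nlinarith
  · have h1 : Nat.card (PSp 2 F) ≤ (2 * B0) ^ 16 := by
      have h2 : Nat.card (PSp 2 F) ≤ Nat.card (spGL 2 F) := Nat.card_le_card_of_surjective _ (prj_surjective (m := 2) (F := F))
      have h3 : Nat.card (spGL 2 F) ≤ Nat.card (Matrix I4 I4 F) :=
        Nat.card_le_card_of_injective (fun g : spGL 2 F => ((g : GL I4 F) : Matrix I4 I4 F)) fun a b h =>
          Subtype.ext (Units.ext h)
      have h4 : Nat.card (Matrix I4 I4 F) = Fintype.card F ^ 16 := by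
        change Nat.card (I4 → I4 → F) = _
        rw [Nat.card_fun, Nat.card_fun, Nat.card_eq_fintype_card, Nat.card_eq_fintype_card, ← pow_mul]
        rfl
      rw [h4] at h3
      exact (h2.trans h3).trans (Nat.pow_le_pow_left (by omega) 16)
    have h2 : (Nat.card (PSp 2 F) : ℝ) ≤ (2 * (B0 : ℝ)) ^ 16 := by exact_mod_cast h1
    have h3 : (1 : ℝ) ≤ (nd K : ℝ) := by exact_mod_cast one_le_nd hK.1
    have h4 : (0 : ℝ) ≤ (2 * (B0 : ℝ)) ^ 16 := by positivity
    nlinarith

end Cfsg.Agent.H618.Dp
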